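import Cfsg.Agent.BabyM.TransFields
import Cfsg.Agent.BabyM.Instance

/-!
# Real elements of orders divisible by 7, 11, 13, 17, 19 in the Baby Monster

Products of two involutions, given as explicit words; the order is read off from the orbit of an axis.
-/

set_option autoImplicit false

namespace Cfsg.Agent.H711.BabyReal

open Cfsg.Agent.Lib.PermNet Cfsg.Agent.Monster.VecEngine Cfsg.Agent.Monster.VecSpace Cfsg.Agent.BabyM.Conc
  Cfsg.Agent.BabyM.ConcGrp Cfsg.Agent.BabyM.TransInv Cfsg.Agent.BabyM.Inst Cfsg.Agent.BabyM.Model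
  Cfsg.Agent.BabyM.InstVec Cfsg.Agent.BabyM.InstZ Cfsg.Agent.BabyM.TransCover Cfsg.Agent.BabyM.TransData
  Cfsg.Agent.BabyM.TransOrd Cfsg.Agent.BabyM.TransFields Cfsg.Agent.BabyM.ConcEq

/-- A product of two elements of square one is real. -/
theorem isConj_inv {G : Type*} [Group G] {a b : G} (ha : a * a = 1) (hb : b * b = 1) :
    IsConj (a * b) (a * b)⁻¹ := by
  have ha' : a⁻¹ = a := inv_eq_of_mul_eq_one_left ha
  have hb' : b⁻¹ = b := inv_eq_of_mul_eq_one_left hb
  rw [isConj_iff]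
  refine ⟨a, ?_⟩
  rw [mul_inv_rev, ha', hb', ← mul_assoc, ha, one_mul]

/-- The word of the product of `b^g` and `a`. -/
def wd (a b g : List Ltr) : List Ltr := a ++ (winv g ++ b ++ g)

theorem W_wd (a b g : List Ltr) : W (wd a b g) = W g * W b * (W g)⁻¹ * W a := by
  unfold wd
  rw [W_append, W_append, W_append, W_winv]
  group

/-- The `n`-th power of a word. -/
def wpow (w : List Ltr) : ℕ → List Ltr
  | 0 => []
  | n + 1 => wpow w n ++ w

theorem W_wpow (w : List Ltr) (n : ℕ) : W (wpow w n) = W w ^ n := by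
  induction n with
  | zero => rw [pow_zero]; rfl
  | succ n ih =>
    show W (wpow w n ++ w) = _
    rw [W_append, ih, pow_succ']

/-- The image of the base axis differs from the base axis in lane 1281. -/
noncomputable def neCheck (w : List Ltr) : Bool :=
  runL (w.map Ltr.prog) dv0 fun y => !decide (val y 1281 = val dv0 1281)

theorem ne_sound {w : List Ltr} (h : neCheck w = true) : W w (vecU ℚ U dv0) ≠ vecU ℚ U dv0 := by
  obtain ⟨y, hy, h1⟩ := W_run h
  rw [Bool.not_eq_true', decide_eq_false_iff_not] at h1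
  rw [← hy]
  intro h2
  have hi : U.testBit 1281 = true := by decide +kernel
  have h3 := congrFun h2 ⟨1281, hi⟩
  have h4 : (val y 1281 : ℚ) = (val dv0 1281 : ℚ) := h3
  exact h1 (Int.cast_injective h4)

/-- **Real elements from words.** -/
theorem of_words {p : ℕ} (hp : p.Prime) (a b g : List Ltr) (ha : W (a ++ a) = W []) (hb : W (b ++ b) = W [])
    (h1 : checkFix ((wpow (wd a b g) p).map Ltr.prog) dv0 = true) (h2 : neCheck (wd a b g) = true) :
    ∃ x : M.G, p ∣ orderOf x ∧ IsConj x x⁻¹ := by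
  have ha' : W a * W a = 1 := by rw [← W_append, ha]; rfl
  have hb' : W b * W b = 1 := by rw [← W_append, hb]; rfl
  let A : M.G := ⟨W a, W_mem_MG a⟩
  let B : M.G := ⟨W g, W_mem_MG g⟩ * ⟨W b, W_mem_MG b⟩ * ⟨W g, W_mem_MG g⟩⁻¹
  have hA : A * A = 1 := Subtype.ext ha'
  have hB : B * B = 1 := by
    have h3 : (⟨W b, W_mem_MG b⟩ : M.G) * ⟨W b, W_mem_MG b⟩ = 1 := Subtype.ext hb'
    calc B * B = ⟨W g, W_mem_MG g⟩ * (⟨W b, W_mem_MG b⟩ * ⟨W b, W_mem_MG b⟩) * (⟨W g, W_mem_MG g⟩ : M.G)⁻¹ := by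
          show (_ * _ * _) * (_ * _ * _) = _
          group
      _ = 1 := by rw [h3, mul_one, mul_inv_cancel]
  have hx : ((B * A : M.G) : V ≃ₗ[ℚ] V) = W (wd a b g) := by rw [W_wd]; rfl
  refine ⟨B * A, ?_, isConj_inv hB hA⟩
  have hfix : ∀ n : ℕ, Function.IsPeriodicPt (fun v : V => ((B * A : M.G) : V ≃ₗ[ℚ] V) v) n (vecU ℚ U dv0) ↔
      (((B * A : M.G) : V ≃ₗ[ℚ] V) ^ n) (vecU ℚ U dv0) = vecU ℚ U dv0 := by
    intro n
    have h3 : ∀ (n : ℕ) (v : V), (fun v : V => ((B * A : M.G) : V ≃ₗ[ℚ] V) v)^[n] v =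
        (((B * A : M.G) : V ≃ₗ[ℚ] V) ^ n) v := by
      intro n
      induction n with
      | zero => intro v; rfl
      | succ n ih => intro v; rw [Function.iterate_succ_apply, ih, pow_succ]; rfl
    show (fun v : V => ((B * A : M.G) : V ≃ₗ[ℚ] V) v)^[n] _ = _ ↔ _
    rw [h3]
  have hper : Function.IsPeriodicPt (fun v : V => ((B * A : M.G) : V ≃ₗ[ℚ] V) v) p (vecU ℚ U dv0) := by
    rw [hfix, hx, ← W_wpow]
    exact W_fix_of_check h1
  have hord : Function.IsPeriodicPt (fun v : V => ((B * A : M.G) : V ≃ₗ[ℚ] V) v) (orderOf (B * A))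
      (vecU ℚ U dv0) := by
    rw [hfix]
    have h3 := congrArg Subtype.val (pow_orderOf_eq_one (B * A))
    rw [SubmonoidClass.coe_pow] at h3
    rw [h3]
    rfl
  have hmin : Function.minimalPeriod (fun v : V => ((B * A : M.G) : V ≃ₗ[ℚ] V) v) (vecU ℚ U dv0) = p := by
    rcases (Nat.dvd_prime hp).1 hper.minimalPeriod_dvd with h3 | h3
    · exfalso
      have h4 := Function.isPeriodicPt_minimalPeriod (fun v : V => ((B * A : M.G) : V ≃ₗ[ℚ] V) v) (vecU ℚ U dv0)
      rw [h3, hfix, pow_one, hx] at h4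
      exact ne_sound h2 h4
    · exact h3
  rw [← hmin]
  exact hord.minimalPeriod_dvd

theorem seven : ∃ x : M.G, 7 ∣ orderOf x ∧ IsConj x x⁻¹ :=
  of_words (by norm_num) [.y10, .Z3] [.y5, .Z8]
    [.p4, .xi, .p9, .hi, .p, .xii, .p2, .hi, .tau, .p2, .xi, .p3, .h, .p5, .xi, .p, .hi]
    (eqM (by decide +kernel)) (eqM (by decide +kernel)) (by decide +kernel) (by decide +kernel)

theorem eleven : ∃ x : M.G, 11 ∣ orderOf x ∧ IsConj x x⁻¹ :=
  of_words (by norm_num) [.y5, .Z5, .z] [.y7, .z] [.p, .xii, .h, .tau, .p10, .xi, .p3, .xi]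
    (eqM (by decide +kernel)) (eqM (by decide +kernel)) (by decide +kernel) (by decide +kernel)

theorem thirteen : ∃ x : M.G, 13 ∣ orderOf x ∧ IsConj x x⁻¹ :=
  of_words (by norm_num) [.y2, .Z8, .Z6] [.y8, .Z6, .Z1]
    [.xi, .p4, .hi, .p3, .xi, .p2, .X6, .tau, .p2, .xii, .p5, .xi]
    (eqM (by decide +kernel)) (eqM (by decide +kernel)) (by decide +kernel) (by decide +kernel)

theorem seventeen : ∃ x : M.G, 17 ∣ orderOf x ∧ IsConj x x⁻¹ :=
  of_words (by norm_num) [.y4, .Z4] [.y7, .z] [.p, .xii, .p6, .xii, .hi, .taui, .p9, .xi, .p7, .h, .xi]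
    (eqM (by decide +kernel)) (eqM (by decide +kernel)) (by decide +kernel) (by decide +kernel)

theorem nineteen : ∃ x : M.G, 19 ∣ orderOf x ∧ IsConj x x⁻¹ :=
  of_words (by norm_num) [.y9, .z] [.y8, .Z8, .Z0]
    [.p10, .xi, .p2, .hi, .tau, .p3, .xi, .p9, .h, .tau, .xi, .p7, .y5]
    (eqM (by decide +kernel)) (eqM (by decide +kernel)) (by decide +kernel) (by decide +kernel)

end Cfsg.Agent.H711.BabyReal
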