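import Mathlib
import Cfsg.Agent.H712.GmnStrong

/-!
# Criteria for the strong row of the Guralnick-Malle-Navarro table, for groups without outer automorphisms of order `p`

`NN p S`: for some (equivalently every) Sylow `p`-subgroup `Q` of `S` there is a `p'`-element which normalises and does
not centralise `Q`.  It goes up to overgroups of `p'`-index and to extensions by normal `p`-subgroups, and gives
`RowS p S` if `p` does not divide the order of `Out S`.
-/

set_option autoImplicit false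

open Subgroup

namespace Cfsg.Agent.H711.Crit

open Cfsg.Agent.H712.Gmn

variable {p : ℕ}

/-- a `p'`-element normalises and does not centralise some Sylow `p`-subgroup -/
def NN (p : ℕ) (S : Type*) [Group S] : Prop :=
  ∃ Q : Sylow p S, ∃ h : S, ¬ p ∣ orderOf h ∧ (∀ x ∈ Q, h * x * h⁻¹ ∈ Q) ∧ ∃ t ∈ Q, h * t * h⁻¹ ≠ t

section
variable {S : Type*} [Group S]

theorem NN.all [Finite S] [Fact p.Prime] (h : NN p S) (Q : Sylow p S) :
    ∃ h : S, ¬ p ∣ orderOf h ∧ (∀ x ∈ Q, h * x * h⁻¹ ∈ Q) ∧ ∃ t ∈ Q, h * t * h⁻¹ ≠ t := by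
  obtain ⟨R, h, h1, h2, t, ht, hne⟩ := h
  obtain ⟨g, rfl⟩ := MulAction.exists_smul_eq S R Q
  have key : ∀ x : S, x ∈ g • R ↔ g⁻¹ * x * g ∈ R := by
    intro x
    rw [← SetLike.mem_coe, Sylow.coe_smul, Set.mem_smul_set_iff_inv_smul_mem]
    have : (MulAut.conj g)⁻¹ • x = g⁻¹ * x * g := by
      rw [← map_inv, MulAut.smul_def, MulAut.conj_apply, inv_inv]
    rw [this, SetLike.mem_coe]
  refine ⟨g * h * g⁻¹, ?_, fun x hx => ?_, g * t * g⁻¹, ?_, fun h0 => hne ?_⟩
  · have : orderOf (g * h * g⁻¹) = orderOf h := by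
      rw [← MulAut.conj_apply, ← MulEquiv.coe_toMonoidHom, orderOf_injective (MulAut.conj g).toMonoidHom (MulAut.conj g).injective]
    rwa [this]
  · rw [key] at hx ⊢
    have := h2 _ hx
    have e : g⁻¹ * (g * h * g⁻¹ * x * (g * h * g⁻¹)⁻¹) * g = h * (g⁻¹ * x * g) * h⁻¹ := by group
    rwa [e]
  · rw [key]
    have e : g⁻¹ * (g * t * g⁻¹) * g = t := by group
    rwa [e]
  · have e : g * h * g⁻¹ * (g * t * g⁻¹) * (g * h * g⁻¹)⁻¹ = g * (h * t * h⁻¹) * g⁻¹ := by group
    rw [e] at h0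
    exact mul_left_cancel (mul_right_cancel h0)

theorem NN.congr {T : Type*} [Group T] (e : S ≃* T) (h : NN p S) : NN p T := by
  obtain ⟨R, h, h1, h2, t, ht, hne⟩ := h
  refine ⟨R.comapOfInjective e.symm.toMonoidHom e.symm.injective (by
    intro y _
    exact ⟨e y, e.symm_apply_apply y⟩), e h, ?_, fun x hx => ?_, e t, ?_, fun h0 => hne ?_⟩
  · rw [show e h = e.toMonoidHom h from rfl, orderOf_injective e.toMonoidHom e.injective]
    exact h1
  · have hx' : e.symm x ∈ R := hx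
    show e.symm (e h * x * (e h)⁻¹) ∈ R
    rw [map_mul, map_mul, map_inv, e.symm_apply_apply]
    exact h2 _ hx'
  · show e.symm (e t) ∈ R
    rw [e.symm_apply_apply]
    exact ht
  · have := congrArg e.symm h0
    simpa using this

/-- the `p`-part and the `p'`-part of an element -/
theorem exists_parts [Finite S] [Fact p.Prime] (n : S) :
    ∃ a b : S, a ∈ zpowers n ∧ b ∈ zpowers n ∧ n = a * b ∧ (∃ k : ℕ, a ^ (p ^ k) = 1) ∧ ¬ p ∣ orderOf b := by
  obtain ⟨k, m, hm, hkm⟩ := Nat.exists_eq_pow_mul_and_not_dvd (n := orderOf n) (orderOf_pos n).ne' p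
    (Nat.Prime.ne_one Fact.out)
  have hco : Nat.Coprime m (p ^ k) := (Nat.Coprime.pow_left k ((Nat.Prime.coprime_iff_not_dvd Fact.out).2 hm)).symm
  obtain ⟨c, hc1, hc2⟩ := Nat.chineseRemainder hco 0 1
  obtain ⟨d, hd1, hd2⟩ := Nat.chineseRemainder hco 1 0
  have hmc : m ∣ c := (Nat.modEq_zero_iff_dvd).1 hc1
  have hpd : p ^ k ∣ d := (Nat.modEq_zero_iff_dvd).1 hd2
  have hcd : c + d ≡ 1 [MOD orderOf n] := by
    rw [hkm, mul_comm]
    refine (Nat.modEq_and_modEq_iff_modEq_mul hco).1 ⟨?_, ?_⟩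
    · simpa using Nat.ModEq.add hc1 hd1
    · simpa using Nat.ModEq.add hc2 hd2
  refine ⟨n ^ c, n ^ d, npow_mem_zpowers n c, npow_mem_zpowers n d, ?_, ⟨k, ?_⟩, fun h0 => hm (h0.trans ?_)⟩
  · rw [← pow_add]
    conv_lhs => rw [← pow_one n]
    exact (pow_eq_pow_iff_modEq.2 hcd).symm
  · rw [← pow_mul, ← orderOf_dvd_iff_pow_eq_one, hkm, mul_comm]
    exact Nat.mul_dvd_mul hmc dvd_rfl
  · rw [orderOf_dvd_iff_pow_eq_one, ← pow_mul, ← orderOf_dvd_iff_pow_eq_one, hkm]
    exact Nat.mul_dvd_mul hpd dvd_rfl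

theorem mem_normalizer_of_forall [Finite S] {A : Subgroup S} {n : S} (hn : ∀ a ∈ A, n * a * n⁻¹ ∈ A) :
    n ∈ normalizer (A : Set S) := by
  rw [Subgroup.mem_normalizer_iff]
  intro x
  refine ⟨hn x, fun hx => ?_⟩
  let f : ↥A → ↥A := fun x => ⟨n * x * n⁻¹, hn x x.2⟩
  have hf : Function.Injective f := by
    intro a b hab
    have := congrArg Subtype.val hab
    exact Subtype.ext (mul_left_cancel (mul_right_cancel this))
  obtain ⟨y, hy⟩ := (Finite.injective_iff_surjective.1 hf) ⟨n * x * n⁻¹, hx⟩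
  have h2 := congrArg Subtype.val hy
  have h3 : (y : S) = x := mul_left_cancel (mul_right_cancel h2)
  rw [← h3]
  exact y.2

/-- a `p`-element normalising a Sylow `p`-subgroup lies in it -/
theorem mem_of_normalizes [Finite S] [Fact p.Prime] (Q : Sylow p S) {a : S} (hn : ∀ x ∈ Q, a * x * a⁻¹ ∈ Q)
    (ha : ∃ k : ℕ, a ^ (p ^ k) = 1) : a ∈ Q := by
  have h1 : a ∈ normalizer ((Q : Subgroup S) : Set S) := mem_normalizer_of_forall hn
  have h2 : IsPGroup p (zpowers a) := by
    obtain ⟨k, hk⟩ := ha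
    rintro ⟨x, hx⟩
    obtain ⟨i, rfl⟩ := mem_zpowers_iff.1 hx
    refine ⟨k, Subtype.ext ?_⟩
    show (a ^ i) ^ (p ^ k) = 1
    rw [← zpow_natCast, ← zpow_mul, mul_comm, zpow_mul, zpow_natCast, hk, one_zpow]
  have h3 := h2.inf_normalizer_sylow Q
  have h4 : a ∈ zpowers a ⊓ normalizer ((Q : Subgroup S) : Set S) := ⟨mem_zpowers a, h1⟩
  exact (h3.le h4).2

theorem NN.of_normalizer [Finite S] [Fact p.Prime] (Q : Sylow p S) (n : S) (hn : ∀ x ∈ Q, n * x * n⁻¹ ∈ Q)
    (h : ∀ q ∈ Q, ∃ t ∈ Q, (n * q) * t * (n * q)⁻¹ ≠ t) : NN p S := by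
  obtain ⟨a, b, ha, hb, hab, hak, hbp⟩ := exists_parts (p := p) n
  have hN : zpowers n ≤ normalizer ((Q : Subgroup S) : Set S) := by
    rw [zpowers_le]
    exact mem_normalizer_of_forall hn
  have haN : ∀ x ∈ Q, a * x * a⁻¹ ∈ Q := fun x hx => ((Subgroup.mem_normalizer_iff.1 (hN ha)) x).1 hx
  have hbN : ∀ x ∈ Q, b * x * b⁻¹ ∈ Q := fun x hx => ((Subgroup.mem_normalizer_iff.1 (hN hb)) x).1 hx
  have haQ : a ∈ Q := mem_of_normalizes Q haN hak
  have hcomm : a * b = b * a := by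
    obtain ⟨i, rfl⟩ := mem_zpowers_iff.1 ha
    obtain ⟨j, rfl⟩ := mem_zpowers_iff.1 hb
    rw [← zpow_add, ← zpow_add, add_comm]
  obtain ⟨t, ht, hne⟩ := h a⁻¹ (inv_mem haQ)
  have e : n * a⁻¹ = b := by rw [hab, hcomm, mul_inv_cancel_right]
  rw [e] at hne
  exact ⟨Q, b, hbp, hbN, t, ht, hne⟩

/-- Burnside: two different conjugate central elements of a Sylow subgroup -/
theorem NN.of_conj [Finite S] [Fact p.Prime] (Q : Sylow p S) {z w : S} (hz : z ∈ Q) (hzc : ∀ x ∈ Q, x * z = z * x)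
    (hwc : ∀ x ∈ Q, x * w = w * x) (hc : IsConj z w) (hne : z ≠ w) : NN p S := by
  obtain ⟨g, hg⟩ := isConj_iff.1 hc
  obtain ⟨n, hn, hnz⟩ := Sylow.conj_eq_normalizer_conj_of_mem_centralizer Q z g⁻¹
    (by rw [Subgroup.mem_centralizer_iff]; exact hzc)
    (by rw [Subgroup.mem_centralizer_iff, inv_inv, hg]; exact hwc)
  rw [inv_inv, hg] at hnz
  have hn' : ∀ x ∈ Q, n⁻¹ * x * n⁻¹⁻¹ ∈ Q := fun x hx => ((Subgroup.mem_normalizer_iff.1 (inv_mem hn)) x).1 hx
  refine NN.of_normalizer Q n⁻¹ hn' fun q hq => ⟨z, hz, fun h0 => hne ?_⟩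
  have h1 : q * z * q⁻¹ = z := by rw [hzc q hq, mul_inv_cancel_right]
  have h2 : n⁻¹ * q * z * (n⁻¹ * q)⁻¹ = n⁻¹ * (q * z * q⁻¹) * n := by group
  rw [h2, h1, ← hnz] at h0
  exact h0.symm

theorem NN.of_real [Finite S] [Fact p.Prime] (hp2 : p ≠ 2) (Q : Sylow p S) {z : S} (hz : z ∈ Q) (hz1 : z ≠ 1)
    (hzc : ∀ x ∈ Q, x * z = z * x) (hc : IsConj z z⁻¹) : NN p S := by
  refine NN.of_conj Q hz hzc (fun x hx => ?_) hc fun h0 => ?_
  · have := hzc x hx
    rw [eq_inv_mul_iff_mul_eq, ← mul_assoc, ← this, mul_inv_cancel_right]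
  · have h2 : z ^ 2 = 1 := by rw [pow_two]; nth_rewrite 2 [h0]; exact mul_inv_cancel z
    obtain ⟨k, hk⟩ := Q.isPGroup' ⟨z, hz⟩
    have hk' : z ^ (p ^ k) = 1 := congrArg Subtype.val hk
    have h3 : orderOf z ∣ 2 := orderOf_dvd_of_pow_eq_one h2
    have h4 : orderOf z ∣ p ^ k := orderOf_dvd_of_pow_eq_one hk'
    have hp : p.Prime := Fact.out
    have h5 : Nat.Coprime 2 (p ^ k) := Nat.Coprime.pow_right k ((Nat.coprime_primes Nat.prime_two hp).2 hp2.symm)
    exact hz1 (orderOf_eq_one_iff.1 (Nat.dvd_one.1 (h5 ▸ Nat.dvd_gcd h3 h4)))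

/-- up to an overgroup of `p'`-index -/
theorem NN.of_injective [Finite S] [Fact p.Prime] {H : Type*} [Group H] (f : H →* S) (hf : Function.Injective f)
    (hi : ¬ p ∣ f.range.index) (h : NN p H) : NN p S := by
  have : Finite H := Finite.of_injective f hf
  obtain ⟨R, h, h1, h2, t, ht, hne⟩ := h
  have hcard : Nat.card ((R : Subgroup H).map f) = p ^ (Nat.card S).factorization p := by
    rw [Nat.card_congr ((R : Subgroup H).equivMapOfInjective f hf).toEquiv.symm, R.card_eq_multiplicity,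
      ← f.range.card_mul_index, Nat.card_congr (MonoidHom.ofInjective hf).toEquiv.symm,
      Nat.factorization_mul Nat.card_pos.ne' (Subgroup.index_ne_zero_of_finite), Finsupp.add_apply,
      Nat.factorization_eq_zero_of_not_dvd hi, add_zero]
  refine ⟨Sylow.ofCard _ hcard, f h, ?_, ?_, f t, mem_map_of_mem f ht, fun h0 => hne (hf ?_)⟩
  · rwa [orderOf_injective f hf]
  · rintro _ ⟨x, hx, rfl⟩
    exact ⟨h * x * h⁻¹, h2 x hx, by simp⟩
  · simpa using h0

theorem NN.of_subgroup [Finite S] [Fact p.Prime] (H : Subgroup S) (hi : ¬ p ∣ H.index) (h : NN p H) : NN p S :=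
  h.of_injective H.subtype H.subtype_injective (by rwa [H.range_subtype])

/-- **up to a group with the given quotient** (arbitrary kernel) -/
theorem NN.of_surjective [Finite S] [Fact p.Prime] {K : Type*} [Group K] (f : S →* K) (hf : Function.Surjective f)
    (h : NN p K) : NN p S := by
  have : Finite K := Finite.of_surjective f hf
  obtain ⟨R, h, h1, h2, t, ht, hne⟩ := h
  obtain ⟨x, rfl⟩ := hf h
  -- the preimage `M` of `R` and a Sylow subgroup of `M`
  let M : Subgroup S := (R : Subgroup K).comap f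
  obtain ⟨Q₀⟩ : Nonempty (Sylow p M) := inferInstance
  let Q₁ : Subgroup S := (Q₀ : Subgroup M).map M.subtype
  have hQ₁M : Q₁ ≤ M := by
    rintro _ ⟨y, -, rfl⟩
    exact y.2
  have hidx : ¬ p ∣ M.index := by
    rw [index_comap_of_surjective _ hf]
    exact R.not_dvd_index
  have hcard : Nat.card Q₁ = p ^ (Nat.card S).factorization p := by
    rw [Nat.card_congr ((Q₀ : Subgroup M).equivMapOfInjective _ M.subtype_injective).toEquiv.symm,
      Q₀.card_eq_multiplicity, ← M.card_mul_index,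
      Nat.factorization_mul Nat.card_pos.ne' (Subgroup.index_ne_zero_of_finite), Finsupp.add_apply,
      Nat.factorization_eq_zero_of_not_dvd hidx, add_zero]
  let Q : Sylow p S := Sylow.ofCard Q₁ hcard
  have hQM : ∀ y ∈ Q, f y ∈ R := fun y hy => hQ₁M hy
  -- the image of `Q` is `R`
  have hmap : (Q : Subgroup S).map f = (R : Subgroup K) := by
    have h3 : IsPGroup p ((Q : Subgroup S).map f) := Q.isPGroup'.map f
    have h4 : (Q : Subgroup S).map f ≤ (R : Subgroup K) := by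
      rintro _ ⟨y, hy, rfl⟩
      exact hQM y hy
    -- index
    have h5 : ¬ p ∣ ((Q : Subgroup S).map f).index := fun h6 =>
      Q.not_dvd_index (h6.trans (index_map_dvd (Q : Subgroup S) hf))
    obtain ⟨n, hn⟩ := h3.exists_card_eq
    have h7 := ((Q : Subgroup S).map f).card_mul_index
    have h8 : Nat.card ((Q : Subgroup S).map f) = Nat.card (R : Subgroup K) := by
      rw [R.card_eq_multiplicity, ← h7, Nat.factorization_mul Nat.card_pos.ne' (Subgroup.index_ne_zero_of_finite),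
        Finsupp.add_apply, Nat.factorization_eq_zero_of_not_dvd h5, add_zero, hn, Nat.Prime.factorization_pow Fact.out,
        Finsupp.single_eq_same]
    exact Subgroup.eq_of_le_of_card_ge h4 h8.ge
  -- `x` normalises `M`
  have hxM : ∀ y ∈ M, x * y * x⁻¹ ∈ M := by
    intro y hy
    show f (x * y * x⁻¹) ∈ R
    rw [map_mul, map_mul, map_inv]
    exact h2 _ hy
  -- Frattini
  have hQx : ∃ m ∈ M, ∀ y ∈ Q, (m * x) * y * (m * x)⁻¹ ∈ Q := by
    let Q₂ : Subgroup S := (Q : Subgroup S).map (MulAut.conj x).toMonoidHom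
    have hQ₂M : Q₂ ≤ M := by
      rintro _ ⟨y, hy, rfl⟩
      exact hxM y (hQ₁M hy)
    have hc2 : Nat.card (Q₂.subgroupOf M) = p ^ (Nat.card M).factorization p := by
      rw [Nat.card_congr (subgroupOfEquivOfLe hQ₂M).toEquiv,
        Nat.card_congr ((Q : Subgroup S).equivMapOfInjective _ (MulAut.conj x).injective).toEquiv.symm,
        ← Q₀.card_eq_multiplicity]
      exact (Nat.card_congr ((Q₀ : Subgroup M).equivMapOfInjective _ M.subtype_injective).toEquiv).symm
    obtain ⟨m, hm⟩ := MulAction.exists_smul_eq M (Sylow.ofCard _ hc2) Q₀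
    refine ⟨m, m.2, fun y hy => ?_⟩
    have h9 : (⟨x * y * x⁻¹, hxM y (hQ₁M hy)⟩ : M) ∈ Sylow.ofCard _ hc2 := by
      show _ ∈ Q₂.subgroupOf M
      rw [mem_subgroupOf]
      exact ⟨y, hy, rfl⟩
    have h10 : m * ⟨x * y * x⁻¹, hxM y (hQ₁M hy)⟩ * m⁻¹ ∈ Q₀ := by
      rw [← hm]
      show _ ∈ ((m • Sylow.ofCard _ hc2 : Sylow p M) : Set M)
      rw [Sylow.coe_smul]
      exact ⟨_, h9, rfl⟩
    refine ⟨_, h10, ?_⟩
    show (m : S) * (x * y * x⁻¹) * (m : S)⁻¹ = _
    group
  obtain ⟨m, hm, hmx⟩ := hQx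
  refine NN.of_normalizer Q (m * x) hmx fun q hq => ?_
  by_contra h0
  push Not at h0
  -- `m * x * q` centralises `Q`
  have hm' : f m ∈ R := hm
  have hq' : f q ∈ R := hQM q hq
  have hcen : ∀ r ∈ R, Commute (f m * f x * f q) r := by
    intro r hr
    have hr' : r ∈ (Q : Subgroup S).map f := by rw [hmap]; exact hr
    obtain ⟨y, hy, rfl⟩ := hr'
    have := congrArg f (h0 y hy)
    simp only [map_mul, map_inv] at this
    exact mul_inv_eq_iff_eq_mul.1 this
  -- `f x * r₀` centralises `R`, for some `r₀ ∈ R`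
  obtain ⟨r₀, hr₀, hcen'⟩ : ∃ r₀ ∈ R, ∀ r ∈ R, Commute (f x * r₀) r := by
    refine ⟨f q * f m, mul_mem hq' hm', fun r hr => ?_⟩
    have h3 : (f m) * r * (f m)⁻¹ ∈ R := mul_mem (mul_mem hm' hr) (inv_mem hm')
    have h4 := hcen _ h3
    have h5 : f x * (f q * f m) = (f m)⁻¹ * (f m * f x * f q) * f m := by group
    rw [h5]
    show _ * r = r * _
    calc (f m)⁻¹ * (f m * f x * f q) * f m * r = (f m)⁻¹ * ((f m * f x * f q) * (f m * r * (f m)⁻¹)) * f m := by group
      _ = (f m)⁻¹ * ((f m * r * (f m)⁻¹) * (f m * f x * f q)) * f m := by rw [h4.eq]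
      _ = r * ((f m)⁻¹ * (f m * f x * f q) * f m) := by group
  set u := f x with hu
  have hc0 : Commute (u * r₀) r₀ := hcen' r₀ hr₀
  have hu2 : u = (u * r₀) * r₀⁻¹ := by group
  have hmm : (u * r₀) ^ orderOf u = r₀ ^ orderOf u := by
    have h6 : u ^ orderOf u = 1 := pow_orderOf_eq_one u
    have h7 : Commute (u * r₀) r₀⁻¹ := hc0.inv_right
    have h8 : ((u * r₀) * r₀⁻¹) ^ orderOf u = (u * r₀) ^ orderOf u * r₀⁻¹ ^ orderOf u := h7.mul_pow _
    rw [← hu2, h6, inv_pow] at h8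
    exact (mul_inv_eq_one.1 h8.symm)
  have hcop : Nat.Coprime (orderOf u) (orderOf r₀) := by
    obtain ⟨k, hk⟩ := R.isPGroup' ⟨r₀, hr₀⟩
    have hk' : r₀ ^ (p ^ k) = 1 := congrArg Subtype.val hk
    refine Nat.Coprime.coprime_dvd_right (orderOf_dvd_of_pow_eq_one hk') ?_
    exact Nat.Coprime.pow_right k ((Nat.Prime.coprime_iff_not_dvd Fact.out).2 h1).symm
  obtain ⟨j, hj⟩ := exists_pow_eq_self_of_coprime hcop
  have h9 : Commute r₀ t := by
    rw [← hj, ← hmm]
    exact ((hcen' _ ht).pow_left _).pow_left _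
  apply hne
  rw [mul_inv_eq_iff_eq_mul]
  show Commute u t
  rw [hu2]
  exact (hcen' _ ht).mul_left h9.inv_left

/-- down to a quotient by a normal `p'`-subgroup -/
theorem NN.map [Finite S] [Fact p.Prime] {K : Type*} [Group K] (f : S →* K) (hf : Function.Surjective f)
    (hk : ¬ p ∣ Nat.card f.ker) (h : NN p S) : NN p K := by
  have : Finite K := Finite.of_surjective f hf
  obtain ⟨Q, h, h1, h2, t, ht, hne⟩ := h
  have hinf : ∀ x ∈ Q, f x = 1 → x = 1 := by
    intro x hx hx1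
    obtain ⟨k, hk'⟩ := Q.isPGroup' ⟨x, hx⟩
    have h3 : x ^ (p ^ k) = 1 := congrArg Subtype.val hk'
    have h4 : orderOf x ∣ Nat.card f.ker := by
      have : orderOf (⟨x, f.mem_ker.2 hx1⟩ : f.ker) ∣ Nat.card f.ker := orderOf_dvd_natCard _
      rwa [Subgroup.orderOf_mk] at this
    have h5 : Nat.Coprime (Nat.card f.ker) (p ^ k) :=
      Nat.Coprime.pow_right k ((Nat.Prime.coprime_iff_not_dvd Fact.out).2 hk).symm
    exact orderOf_eq_one_iff.1 (Nat.dvd_one.1 (h5 ▸ Nat.dvd_gcd h4 (orderOf_dvd_of_pow_eq_one h3)))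
  let g : (Q : Subgroup S) →* K := f.comp (Q : Subgroup S).subtype
  have hg : Function.Injective g := by
    rw [injective_iff_map_eq_one]
    rintro ⟨x, hx⟩ hx1
    exact Subtype.ext (hinf x hx hx1)
  have hcard : Nat.card ((Q : Subgroup S).map f) = p ^ (Nat.card K).factorization p := by
    have h3 : (Q : Subgroup S).map f = g.range := by
      rw [MonoidHom.range_comp, Subgroup.range_subtype]
    rw [h3, Nat.card_congr (MonoidHom.ofInjective hg).toEquiv.symm, Q.card_eq_multiplicity,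
      f.ker.card_eq_card_quotient_mul_card_subgroup,
      Nat.card_congr (QuotientGroup.quotientKerEquivOfSurjective f hf).toEquiv,
      Nat.factorization_mul Nat.card_pos.ne' Nat.card_pos.ne', Finsupp.add_apply,
      Nat.factorization_eq_zero_of_not_dvd hk, add_zero]
  refine ⟨Sylow.ofCard _ hcard, f h, fun h0 => h1 (h0.trans (orderOf_map_dvd f h)), ?_, f t, mem_map_of_mem f ht,
    fun h0 => hne ?_⟩
  · rintro _ ⟨x, hx, rfl⟩
    exact ⟨h * x * h⁻¹, h2 x hx, by simp⟩
  · have h3 : h * t * h⁻¹ * t⁻¹ ∈ Q := mul_mem (h2 t ht) (inv_mem ht)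
    have h4 := hinf _ h3 (by rw [map_mul, map_mul, map_mul, map_inv, map_inv, h0, mul_inv_cancel])
    exact mul_inv_eq_one.1 h4

/-- the strong row gives a moving element -/
theorem NN.of_rowS [Finite S] [Fact p.Prime] (hZ : center S = ⊥) (h : RowS p S) : NN p S := by
  obtain ⟨Q⟩ : Nonempty (Sylow p S) := inferInstance
  obtain ⟨x, hx, hn, t, ht, hne⟩ := h ((Q : Subgroup S).map (MulAut.conj : S →* MulAut S)) (Q.isPGroup'.map _) Q
    fun x hx => mem_map_of_mem _ hx
  refine ⟨Q, x, hx, fun y hy => ?_, t, ht, hne⟩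
  have h1 := hn _ (mem_map_of_mem (MulAut.conj : S →* MulAut S) hy)
  rw [mul_conj_inv] at h1
  exact mem_sylow_of_conj_mem hZ (Q.isPGroup'.map _) Q (fun x hx => mem_map_of_mem _ hx) h1

/-- the strong row from a moving element, if `Out S` has no elements of order `p` -/
theorem rowS_of_NN [Finite S] [Fact p.Prime] (hZ : center S = ⊥) (hOut : ¬ p ∣ Nat.card (MulAut S ⧸ (MulAut.conj : S →* MulAut S).range))
    (h : NN p S) : RowS p S := by
  have : Finite (MulAut S) := finite_mulAut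
  intro A hA Q hQ
  have hle : A ≤ (MulAut.conj : S →* MulAut S).range := by
    intro a ha
    obtain ⟨k, hk⟩ := hA ⟨a, ha⟩
    have hk' : a ^ (p ^ k) = 1 := congrArg Subtype.val hk
    have h1 : (QuotientGroup.mk a : MulAut S ⧸ (MulAut.conj : S →* MulAut S).range) = 1 := by
      have h2 : (QuotientGroup.mk a : MulAut S ⧸ (MulAut.conj : S →* MulAut S).range) ^ (p ^ k) = 1 := by
        rw [← QuotientGroup.mk_pow, hk']; rfl
      have h3 := orderOf_dvd_of_pow_eq_one h2
      have h4 := orderOf_dvd_natCard (QuotientGroup.mk a : MulAut S ⧸ (MulAut.conj : S →* MulAut S).range)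
      have h5 : Nat.Coprime (Nat.card (MulAut S ⧸ (MulAut.conj : S →* MulAut S).range)) (p ^ k) :=
        Nat.Coprime.pow_right k ((Nat.Prime.coprime_iff_not_dvd Fact.out).2 hOut).symm
      exact orderOf_eq_one_iff.1 (Nat.dvd_one.1 (h5 ▸ Nat.dvd_gcd h4 h3))
    exact (QuotientGroup.eq_one_iff a).1 h1
  obtain ⟨x, hx, hn, t, ht, hne⟩ := h.all Q
  refine ⟨x, hx, fun a ha => ?_, t, ht, hne⟩
  obtain ⟨s, rfl⟩ := hle ha
  -- `A = conj (Q)`
  have hs : s ∈ Q := mem_sylow_of_conj_mem hZ hA Q hQ ha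
  rw [mul_conj_inv, MulAut.conj_apply]
  exact hQ _ (hn s hs)

/-- an element of order `p` in the centre of a Sylow subgroup containing a given element -/
theorem exists_central [Finite S] [Fact p.Prime] (Q : Sylow p S) (hp : p ∣ Nat.card S) :
    ∃ w ∈ Q, orderOf w = p ∧ ∀ y ∈ Q, y * w = w * y := by
  have hne : Nontrivial ↥(Q : Subgroup S) := by
    have h1 : p ∣ Nat.card (Q : Subgroup S) := Q.dvd_card_of_dvd_card hp
    rw [← Finite.one_lt_card_iff_nontrivial]
    exact lt_of_lt_of_le (Nat.Prime.one_lt Fact.out) (Nat.le_of_dvd Nat.card_pos h1)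
  have hcn : Nontrivial (Subgroup.center ↥(Q : Subgroup S)) := Q.isPGroup'.center_nontrivial
  have h3 : p ∣ Nat.card (Subgroup.center ↥(Q : Subgroup S)) := by
    obtain ⟨n, hn⟩ := (Q.isPGroup'.to_subgroup (Subgroup.center ↥(Q : Subgroup S))).exists_card_eq
    rw [hn]
    refine dvd_pow_self p fun h0 => ?_
    rw [h0, pow_zero] at hn
    exact (Finite.one_lt_card (α := Subgroup.center ↥(Q : Subgroup S))).ne' hn
  obtain ⟨⟨⟨w, hwP⟩, hwc⟩, hw⟩ := exists_prime_orderOf_dvd_card' p h3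
  rw [Subgroup.orderOf_mk, Subgroup.orderOf_mk] at hw
  exact ⟨w, hwP, hw, fun y hy => congrArg Subtype.val (Subgroup.mem_center_iff.1 hwc ⟨y, hy⟩)⟩

/-- all elements of order `p` commuting with one given element of order `p` are real -/
theorem NN.of_comm_real [Finite S] [Fact p.Prime] (hp2 : p ≠ 2) {x : S} (hx : orderOf x = p)
    (h : ∀ z : S, orderOf z = p → z * x = x * z → IsConj z z⁻¹) : NN p S := by
  have hp : IsPGroup p (zpowers x) := IsPGroup.of_card (n := 1) (by rw [Nat.card_zpowers, hx, pow_one])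
  obtain ⟨P, hP⟩ := hp.exists_le_sylow
  have hxP : x ∈ P := hP (Subgroup.mem_zpowers x)
  obtain ⟨w, hwP, hw, hcen⟩ := exists_central P (hx ▸ orderOf_dvd_natCard x)
  have hw1 : w ≠ 1 := by
    intro h0
    rw [h0, orderOf_one] at hw
    exact (Nat.Prime.one_lt (Fact.out : p.Prime)).ne hw
  exact NN.of_real hp2 P hwP hw1 hcen (h w hw (hcen x hxP).symm)

/-- a real element of order `p` whose centralizer contains a Sylow `p`-subgroup -/
theorem NN.of_real_card [Finite S] [Fact p.Prime] (hp2 : p ≠ 2) {z : S} (hz : orderOf z = p) (hc : IsConj z z⁻¹)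
    {n m : ℕ} (hS : Nat.card S = p ^ n * m) (hm : ¬ p ∣ m) (hC : p ^ n ∣ Nat.card ↥(centralizer ({z} : Set S))) :
    NN p S := by
  have hp : p.Prime := Fact.out
  obtain ⟨R, hR⟩ := Sylow.exists_subgroup_card_pow_prime p hC
  let P : Subgroup S := R.map (centralizer ({z} : Set S)).subtype
  have hP : Nat.card P = p ^ (Nat.card S).factorization p := by
    have hm0 : m ≠ 0 := fun h0 => hm (by rw [h0]; exact dvd_zero p)
    rw [Nat.card_congr (R.equivMapOfInjective _ (subtype_injective _)).toEquiv.symm, hR, hS,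
      Nat.factorization_mul (pow_pos hp.pos n).ne' hm0, Finsupp.add_apply, Nat.factorization_eq_zero_of_not_dvd hm,
      Nat.Prime.factorization_pow hp, Finsupp.single_eq_same, add_zero]
  have hcen : ∀ x ∈ Sylow.ofCard P hP, x * z = z * x := by
    rintro _ ⟨⟨x, hx⟩, -, rfl⟩
    exact mem_centralizer_singleton_iff.1 hx
  have hzP : z ∈ Sylow.ofCard P hP := by
    refine mem_of_normalizes _ (fun x hx => ?_) ⟨1, by rw [pow_one, ← hz, pow_orderOf_eq_one]⟩
    rwa [← hcen x hx, mul_inv_cancel_right]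
  refine NN.of_real hp2 _ hzP (fun h0 => ?_) hcen hc
  rw [h0, orderOf_one] at hz
  exact hp.one_lt.ne hz

/-- Burnside's transfer theorem: an abelian Sylow subgroup of a simple group -/
theorem NN.of_abelian [Finite S] [Fact p.Prime] [IsSimpleGroup S] (hp : p ∣ Nat.card S) (hne : Nat.card S ≠ p)
    (Q : Sylow p S) (hab : ∀ a ∈ Q, ∀ b ∈ Q, a * b = b * a) : NN p S := by
  by_contra hno
  have hN : normalizer ((Q : Subgroup S) : Set S) ≤ centralizer ((Q : Subgroup S) : Set S) := by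
    intro n hn
    rw [Subgroup.mem_centralizer_iff]
    by_contra h0
    push Not at h0
    obtain ⟨t, ht, htn⟩ := h0
    refine hno (NN.of_normalizer Q n (fun x hx => ((Subgroup.mem_normalizer_iff.1 hn) x).1 hx) fun q hq => ⟨t, ht, ?_⟩)
    intro h1
    apply htn
    have h2 : q * t * q⁻¹ = t := by rw [hab q hq t ht, mul_inv_cancel_right]
    have h3 : n * q * t * (n * q)⁻¹ = n * (q * t * q⁻¹) * n⁻¹ := by group
    rw [h3, h2] at h1
    exact (mul_inv_eq_iff_eq_mul.1 h1).symm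
  have hc := MonoidHom.ker_transferSylow_isComplement' Q hN
  have h1 : Nat.card (MonoidHom.transferSylow Q hN).ker * Nat.card (Q : Subgroup S) = Nat.card S := hc.card_mul_card
  have hQp : p ∣ Nat.card (Q : Subgroup S) := Q.dvd_card_of_dvd_card hp
  rcases (inferInstance : (MonoidHom.transferSylow Q hN).ker.Normal).eq_bot_or_eq_top with h2 | h2
  · -- `S` is a `p`-group
    rw [h2, Subgroup.card_bot, one_mul] at h1
    have hQt : (Q : Subgroup S) = ⊤ := Subgroup.eq_top_of_card_eq _ h1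
    have hcomm : ∀ a b : S, a * b = b * a := fun a b =>
      hab a (by rw [← SetLike.mem_coe]; show a ∈ (Q : Subgroup S); rw [hQt]; exact mem_top a) b
        (by rw [← SetLike.mem_coe]; show b ∈ (Q : Subgroup S); rw [hQt]; exact mem_top b)
    let _ : CommGroup S := { (inferInstance : Group S) with mul_comm := hcomm }
    have h3 : (Nat.card S).Prime := IsSimpleGroup.prime_card
    exact hne ((Nat.prime_dvd_prime_iff_eq Fact.out h3).1 hp).symm
  · rw [h2, Subgroup.card_top] at h1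
    have h3 : 0 < Nat.card S := Nat.card_pos
    have h4 : Nat.card (Q : Subgroup S) = 1 := Nat.eq_of_mul_eq_mul_left h3 (by rw [h1, mul_one])
    rw [h4] at hQp
    exact (Nat.Prime.one_lt (Fact.out : p.Prime)).ne' (Nat.dvd_one.1 hQp)

theorem nn_s3 : NN 3 (Equiv.Perm (Fin 3)) := by
  have : Fact (Nat.Prime 3) := ⟨Nat.prime_three⟩
  have hc : Nat.card (Equiv.Perm (Fin 3)) = 6 := by rw [Nat.card_eq_fintype_card]; decide
  refine NN.of_comm_real (by norm_num) (x := finRotate 3) ?_ fun z _ _ => ?_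
  · rw [orderOf_eq_prime_iff]; decide
  · have : ∀ z : Equiv.Perm (Fin 3), ∃ c : Equiv.Perm (Fin 3), c * z * c⁻¹ = z⁻¹ := by decide
    exact isConj_iff.2 (this z)
end

end Cfsg.Agent.H711.Crit
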