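import Cfsg.Agent.H711.FiThreeRow
import Cfsg.Agent.BM.Psi
import Cfsg.Agent.BM.KHAll

/-!
# The strong row for `p = 3`: the Baby Monster
-/

set_option autoImplicit false

open Subgroup

namespace Cfsg.Agent.H711.BabyRow

open Cfsg Cfsg.Agent.H711.Crit

theorem nn_b : NN 3 Spor.BabyMonster := by
  have : Fact (Nat.Prime 3) := ⟨Nat.prime_three⟩
  have hB : Nat.card Spor.BabyMonster = 4154781481226426191177580544000000 := BM.KHAll.card_B
  have : Finite Spor.BabyMonster := Nat.finite_of_card_ne_zero (by rw [hB]; norm_num)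
  have hF : Nat.card Spor.Fi23 = 4089470473293004800 := BM.Psi.card_Fi23
  let f := BM.Psi.psi2 BM.Psi.rel_of
  have hs : IsSimpleGroup Spor.Fi23 := Cfsg.Agent.S1697.result.1
  have hinj : Function.Injective f := by
    rw [← MonoidHom.ker_eq_bot_iff]
    rcases (inferInstance : f.ker.Normal).eq_bot_or_eq_top with h | h
    · exact h
    · exfalso
      have h1 : f (Fischer.Fi23Hom.gen .a) = 1 := by
        rw [← MonoidHom.mem_ker, h]
        exact mem_top _
      rw [show f (Fischer.Fi23Hom.gen .a) = _ from BM.Psi.psi2_gen BM.Psi.rel_of .a] at h1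
      have h2 := BM.KHAll.card_cent (BM.Psi.m2 .a)
      have h3 : centralizer ({BM.StageBFinalOf.gB (BM.Psi.m2 .a)} : Set Spor.BabyMonster) = ⊤ := by
        rw [eq_top_iff]
        intro g _
        rw [mem_centralizer_singleton_iff]
        have : BM.StageBFinalOf.gB (BM.Psi.m2 .a) = 1 := h1
        rw [this, mul_one, one_mul]
      rw [h3, card_top, hB] at h2
      norm_num at h2
  refine NN.of_injective f hinj ?_ FiThreeRow.nn_fi23
  have h1 := f.range.card_mul_index
  rw [Nat.card_congr (MonoidHom.ofInjective hinj).toEquiv.symm, hF, hB] at h1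
  rintro ⟨c, hc⟩
  rw [hc] at h1
  omega

end Cfsg.Agent.H711.BabyRow
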