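import Cfsg.Agent.H711.Crit
import Cfsg.Agent.H711.RowCount
import Cfsg.Agent.H830.Type24
import Cfsg.Agent.H830.Con24

/-!
# The strong row for `p = 3`: `Fi23`
-/

set_option autoImplicit false

open Subgroup

namespace Cfsg.Agent.H711.FiThreeRow

open Cfsg Cfsg.Agent.H711.Crit Cfsg.Agent.Fischer480.Defs Cfsg.Agent.R08 Cfsg.Agent.R08.FiTwentyFour
open Cfsg.Agent.Fischer.Fi24Class (gen gen_sq)
open Cfsg.Agent.H830.Con24 Cfsg.Agent.H830.Type24

/-- two transpositions which do not commute -/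
theorem exists_pair : ∃ c ∈ L, ¬ Commute (gen .l) c := by
  have := finite_Fi24
  obtain ⟨d, hd, c, hc, hdc⟩ := Cfsg.Agent.H830.TypeConv.exists_ncomm fgroup
  obtain ⟨g, hg⟩ := isConj_iff.1 (show IsConj (gen .l) d from hd)
  refine ⟨g⁻¹ * c * g⁻¹⁻¹, conj_mem_L hc g⁻¹, fun h0 => hdc ?_⟩
  have h1 : gen .l = g⁻¹ * d * g⁻¹⁻¹ := by rw [← hg]; group
  rw [h1] at h0
  have h2 : g⁻¹ * (d * c) * g⁻¹⁻¹ = g⁻¹ * (c * d) * g⁻¹⁻¹ := by
    have h3 := h0.eq
    calc g⁻¹ * (d * c) * g⁻¹⁻¹ = g⁻¹ * d * g⁻¹⁻¹ * (g⁻¹ * c * g⁻¹⁻¹) := by group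
      _ = g⁻¹ * c * g⁻¹⁻¹ * (g⁻¹ * d * g⁻¹⁻¹) := h3
      _ = g⁻¹ * (c * d) * g⁻¹⁻¹ := by group
  exact mul_left_cancel (mul_right_cancel h2)

/-- the centralizer of two transpositions -/
theorem closure_com {d c : Spor.Fi24} (hd : d ∈ L) (hc : c ∈ L) (hdc : ¬ Commute d c) :
    closure (Com L d c) = centralizer ({c} : Set Spor.Fi24) ⊓ centralizer ({d} : Set Spor.Fi24) := by
  have := finite_Fi24
  have h1 := card_two fgroup isT8 hd hc hdc
  obtain ⟨N, hN, ⟨e⟩, ⟨f⟩⟩ := tri_com fgroup isT8 hd hc hdc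
  have hle : closure (Com L d c) ≤ centralizer ({c} : Set Spor.Fi24) ⊓ centralizer ({d} : Set Spor.Fi24) := by
    rw [closure_le]
    rintro z ⟨-, h2, h3⟩
    exact ⟨mem_centralizer_singleton_iff.2 h3.symm.eq, mem_centralizer_singleton_iff.2 h2.symm.eq⟩
  apply Subgroup.eq_of_le_of_card_ge hle
  rw [h1]
  have h2 := N.card_eq_card_quotient_mul_card_subgroup
  rw [Nat.card_congr e.toEquiv, Nat.card_congr f.toEquiv, H830.TriMain.card_pomega, Nat.card_perm, Nat.card_fin] at h2
  have h3 : Nat.card (↥(closure (Com L d c)) ⧸ center ↥(closure (Com L d c))) ≤ Nat.card ↥(closure (Com L d c)) :=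
    Nat.le_of_dvd Nat.card_pos (card_quotient_dvd_card _)
  refine le_trans (le_of_eq ?_) h3
  rw [h2]
  rfl

theorem nn_pair {d c : Spor.Fi24} (hd : d ∈ L) (hc : c ∈ L) (hdc : ¬ Commute d c) :
    NN 3 ↥(centralizer ({c} : Set Spor.Fi24) ⊓ centralizer ({d} : Set Spor.Fi24)) := by
  have := finite_Fi24
  have : Fact (Nat.Prime 3) := ⟨Nat.prime_three⟩
  obtain ⟨N, hN, -, ⟨f⟩⟩ := tri_com fgroup isT8 hd hc hdc
  rw [← closure_com hd hc hdc]
  refine NN.of_surjective (K := Equiv.Perm (Fin 3))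
    ((f.toMonoidHom.comp (QuotientGroup.mk' N)).comp (QuotientGroup.mk' (center ↥(closure (Com L d c))))) ?_ nn_s3
  exact (f.surjective.comp (QuotientGroup.mk'_surjective _)).comp (QuotientGroup.mk'_surjective _)

/-- `C(l) = ⟨l⟩ × Fi23` -/
theorem exists_equiv : ∃ f : ↥(centralizer ({gen .l} : Set Spor.Fi24)) →* Spor.Fi23, Function.Surjective f ∧
    Nat.card f.ker = 2 := by
  have := finite_Fi24
  have hll : gen .l * gen .l = (1 : Spor.Fi24) := gen_sq _
  have hl1 : (gen .l : Spor.Fi24) ≠ 1 := ne_one_L (gen_mem_L .l)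
  let l : ↥(centralizer ({gen .l} : Set Spor.Fi24)) := ⟨gen .l, mem_centralizer_singleton_iff.2 rfl⟩
  have hlc : zpowers l ≤ center _ := by
    rw [zpowers_le, mem_center_iff]
    rintro ⟨g, hg⟩
    exact Subtype.ext (mem_centralizer_singleton_iff.1 hg)
  have hZ : (zpowers l).Normal := by
    constructor
    intro n hn g
    rw [mem_center_iff.1 (hlc hn) g, mul_inv_cancel_right]
    exact hn
  have hord : orderOf l = 2 := orderOf_eq_prime (by rw [pow_two]; exact Subtype.ext hll)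
    (fun h => hl1 (congrArg Subtype.val h))
  let φ : Spor.Fi23 →* ↥(centralizer ({gen .l} : Set Spor.Fi24)) :=
    facts.phi.codRestrict _ fun k => mem_centralizer_singleton_iff.2 (facts.phi_comm k)
  have hzm : ∀ x, x ∈ zpowers l ↔ x = 1 ∨ x = l := by
    intro x
    have hl2 : l * l = 1 := Subtype.ext hll
    constructor
    · intro hx
      obtain ⟨i, rfl⟩ := mem_zpowers_iff.1 hx
      rcases Int.even_or_odd i with ⟨j, rfl⟩ | ⟨j, rfl⟩
      · left
        rw [zpow_add, ← (Commute.refl l).mul_zpow, hl2, one_zpow]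
      · right
        rw [zpow_add, two_mul, zpow_add, ← (Commute.refl l).mul_zpow, hl2, one_zpow, one_mul, zpow_one]
    · rintro (rfl | rfl)
      · exact one_mem _
      · exact mem_zpowers l
  let ψ : Spor.Fi23 →* ↥(centralizer ({gen .l} : Set Spor.Fi24)) ⧸ zpowers l := (QuotientGroup.mk' (zpowers l)).comp φ
  have hinj : Function.Injective ψ := by
    rw [injective_iff_map_eq_one]
    intro k hk
    have h1 : φ k ∈ zpowers l := (QuotientGroup.eq_one_iff _).1 hk
    rcases (hzm _).1 h1 with h2 | h2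
    · exact facts.phi_injective ((congrArg Subtype.val h2).trans (map_one _).symm)
    · exfalso
      have h3 : facts.phi k = gen .l := congrArg Subtype.val h2
      have h4 := facts.sgn_phi k
      rw [h3, sgn_L (gen_mem_L .l)] at h4
      exact absurd h4 (by decide)
  have hsurj : Function.Surjective ψ := by
    intro y
    obtain ⟨⟨x, hx⟩, rfl⟩ := QuotientGroup.mk_surjective y
    obtain ⟨k, hk | hk⟩ := facts.mem_H_cases ((facts.mem_H_iff x).2 (mem_centralizer_singleton_iff.1 hx))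
    · exact ⟨k, congrArg _ (Subtype.ext hk.symm)⟩
    · refine ⟨k, QuotientGroup.eq.2 ?_⟩
      rw [hzm]
      right
      apply Subtype.ext
      show (facts.phi k)⁻¹ * x = gen .l
      rw [hk, inv_mul_cancel_left]
  let e := MulEquiv.ofBijective ψ ⟨hinj, hsurj⟩
  refine ⟨e.symm.toMonoidHom.comp (QuotientGroup.mk' (zpowers l)),
    e.symm.surjective.comp (QuotientGroup.mk'_surjective _), ?_⟩
  have hk : (e.symm.toMonoidHom.comp (QuotientGroup.mk' (zpowers l))).ker = zpowers l := by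
    ext x
    rw [MonoidHom.mem_ker]
    constructor
    · intro h
      exact (QuotientGroup.eq_one_iff x).1 (e.symm.injective (h.trans (map_one e.symm).symm))
    · intro h
      show e.symm (QuotientGroup.mk x) = 1
      rw [(QuotientGroup.eq_one_iff x).2 h, map_one]
  rw [hk, Nat.card_zpowers, hord]

theorem nn_fi23 : NN 3 Spor.Fi23 := by
  have := finite_Fi24
  have : Fact (Nat.Prime 3) := ⟨Nat.prime_three⟩
  obtain ⟨f, hf, hk⟩ := exists_equiv
  obtain ⟨c, hc, hdc⟩ := exists_pair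
  have h1 := nn_pair (gen_mem_L .l) hc hdc
  have h2 := card_two fgroup isT8 (gen_mem_L .l) hc hdc
  have hF : Nat.card Spor.Fi23 = 4089470473293004800 := NotCT.Orders.fi23 ⟨MulEquiv.refl _⟩
  have hC : Nat.card ↥(centralizer ({gen .l} : Set Spor.Fi24)) = 4089470473293004800 * 2 := by
    rw [f.ker.card_eq_card_quotient_mul_card_subgroup, hk,
      Nat.card_congr (QuotientGroup.quotientKerEquivOfSurjective f hf).toEquiv, hF]
  refine NN.map f hf (by rw [hk]; norm_num) ?_
  have hle : centralizer ({c} : Set Spor.Fi24) ⊓ centralizer ({gen .l} : Set Spor.Fi24) ≤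
    centralizer ({gen .l} : Set Spor.Fi24) := inf_le_right
  refine NN.of_subgroup ((centralizer ({c} : Set Spor.Fi24) ⊓ centralizer ({gen .l} : Set Spor.Fi24)).subgroupOf
    (centralizer ({gen .l} : Set Spor.Fi24))) ?_ (h1.congr (subgroupOfEquivOfLe hle).symm)
  have h3 := ((centralizer ({c} : Set Spor.Fi24) ⊓ centralizer ({gen .l} : Set Spor.Fi24)).subgroupOf
    (centralizer ({gen .l} : Set Spor.Fi24))).card_mul_index
  rw [Nat.card_congr (subgroupOfEquivOfLe hle).toEquiv, h2, hC] at h3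
  rintro ⟨m, hm⟩
  rw [hm] at h3
  omega

end Cfsg.Agent.H711.FiThreeRow
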