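import Cfsg.Agent.J3.Nineteen
import Cfsg.Agent.S1625
import Cfsg.Agent.H711.Crit

/-!
# The strong row for `p = 3`: `J3`
-/

set_option autoImplicit false

open Subgroup Matrix

namespace Cfsg.Agent.H711.JThreeRow

open Cfsg Cfsg.Spor Cfsg.Agent.H711.Crit Cfsg.Agent.J3.Core Cfsg.Agent.J3.Elts Cfsg.Agent.J3.Mono Cfsg.Agent.J3.Nineteen

section
variable {F : Type} [Field F] (ω : F)

/-- monomial matrices over translations of `F9` with entries powers of `ω` -/
def mono (w : F9) (f : F9 → ℕ) : Matrix F9 F9 F := Matrix.of fun y z => if y = z + w then ω ^ f z else 0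

theorem mono_mul (w w' : F9) (f f' : F9 → ℕ) :
    mono ω w f * mono ω w' f' = mono ω (w' + w) fun z => f (z + w') + f' z := by
  ext y z
  rw [Matrix.mul_apply]
  unfold mono
  simp only [Matrix.of_apply]
  rw [Finset.sum_eq_single (z + w')]
  · rw [if_pos (rfl : z + w' = z + w'), add_assoc]
    split_ifs with h
    · rw [pow_add]
    · rw [zero_mul]
  · intro x _ hx
    rw [if_neg hx, mul_zero]
  · intro h
    exact absurd (Finset.mem_univ _) h

theorem mono_one : mono ω 0 (fun _ => 0) = 1 := by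
  ext y z
  unfold mono
  rw [Matrix.of_apply, Matrix.one_apply, add_zero]
  simp

theorem three_F9 : ∀ w : F9, w + (w + w) = 0 := by decide

variable {ω}

theorem mono_pow_nine (H : Good ω) (w : F9) (f : F9 → ℕ) : mono ω w f ^ 9 = 1 := by
  have h1 : ∃ g : F9 → ℕ, mono ω w f ^ 3 = mono ω 0 g := by
    refine ⟨fun z => (f (z + w + w) + f (z + w)) + f z, ?_⟩
    rw [pow_succ, pow_two, mono_mul, mono_mul, three_F9]
  obtain ⟨g, hg⟩ := h1
  rw [show 9 = 3 * 3 from rfl, pow_mul, hg, pow_succ, pow_two, mono_mul, mono_mul, ← mono_one ω]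
  ext y z
  unfold mono
  simp only [Matrix.of_apply, add_zero]
  split_ifs with h
  · rw [show g z + g z + g z = 3 * g z by ring, pow_mul, H.cube, one_pow, pow_zero]
  · rfl

/-- the monomial 3-group -/
def Ph (H : Good ω) : Subgroup (threeJ3 F ω) where
  carrier := {t | ∃ (w : F9) (f : F9 → ℕ), mat ω t = mono ω w f}
  mul_mem' := by
    rintro a b ⟨w, f, ha⟩ ⟨w', f', hb⟩
    exact ⟨_, _, by rw [map_mul, ha, hb, mono_mul]⟩
  one_mem' := ⟨0, fun _ => 0, by rw [map_one, mono_one]⟩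
  inv_mem' := by
    rintro a ⟨w, f, ha⟩
    have h9 : a ^ 9 = 1 := mat_injective (by rw [map_pow, ha, mono_pow_nine H, map_one])
    have h8 : a⁻¹ = a ^ 8 := by
      rw [inv_eq_iff_mul_eq_one, ← pow_succ']
      exact h9
    have key : ∀ n : ℕ, ∃ (w : F9) (f : F9 → ℕ), mat ω (a ^ n) = mono ω w f := by
      intro n
      induction n with
      | zero => exact ⟨0, fun _ => 0, by rw [pow_zero, map_one, mono_one]⟩
      | succ n ih =>
        obtain ⟨w', f', h⟩ := ih
        exact ⟨_, _, by rw [pow_succ, map_mul, h, ha, mono_mul]⟩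
    rw [h8]
    exact key 8

theorem isPGroup_Ph (H : Good ω) : IsPGroup 3 (Ph H) := by
  rintro ⟨t, w, f, ht⟩
  refine ⟨2, Subtype.ext (mat_injective ?_)⟩
  show mat ω (t ^ (3 ^ 2)) = mat ω 1
  rw [map_pow, ht, show 3 ^ 2 = 9 from rfl, mono_pow_nine H, map_one]

/-- the exponents of `D_Z` -/
def lam (Z z : F9) : ℕ :=
  if z = 0 then 0
  else if F9.div Z z = F9.I - F9.one then 1
  else if F9.div Z z = -F9.I - F9.one then 2
  else 0

theorem j3A_eq (Z : F9) : j3A F ω Z = mono ω 0 fun z => (Z.1 * z.1 + Z.2 * z.2).val := by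
  ext y z
  unfold j3A mono omegaPow
  rw [Matrix.of_apply, add_zero, Matrix.diagonal_apply]
  by_cases h : y = z
  · rw [if_pos h, if_pos h, h]
  · rw [if_neg h, if_neg h]

theorem j3E_eq : j3E F ω 0 = mono ω 0 fun z => ((0 - z.1) ^ 2 + (0 - z.2) ^ 2).val := by
  ext y z
  unfold j3E mono omegaPow
  rw [Matrix.of_apply, add_zero, Matrix.diagonal_apply]
  by_cases h : y = z
  · rw [if_pos h, if_pos h, h]; rfl
  · rw [if_neg h, if_neg h]

theorem j3D_eq (Z : F9) : j3D F ω Z = mono ω Z (lam Z) := by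
  ext y z
  unfold j3D mono j3Lam lam
  rw [Matrix.of_apply, Matrix.of_apply]
  split_ifs <;> simp

theorem scalar_eq : (ω • 1 : Matrix F9 F9 F) = mono ω 0 fun _ => 1 := by
  ext y z
  unfold mono
  rw [Matrix.of_apply, add_zero, Matrix.smul_apply, Matrix.one_apply]
  by_cases h : y = z
  · rw [if_pos h, if_pos h]; simp
  · rw [if_neg h, if_neg h, smul_zero]

theorem mono_entry (H : Good ω) (w : F9) (f : F9 → ℕ) (y z : F9) : mono ω w f y z ≠ 0 ↔ y = z + w := by
  unfold mono
  rw [Matrix.of_apply]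
  by_cases h : y = z + w
  · simp [h, H.ne_zero]
  · simp [h]

theorem mono_inj (H : Good ω) {w w' : F9} {f f' : F9 → ℕ} (h : mono ω w f = mono ω w' f') : w = w' := by
  have h1 := (mono_entry H w f w 0).2 (zero_add w).symm
  rw [h, mono_entry H, zero_add] at h1
  exact h1

/-- a nonzero form is not constant zero -/
theorem form_zero : ∀ (r k x y : ZMod 3), (∀ z : F9, r + k * (z.1 ^ 2 + z.2 ^ 2) + (x * z.1 + y * z.2) = 0) →
    r = 0 ∧ k = 0 ∧ x = 0 ∧ y = 0 := by decide

theorem omega_pow_cast (H : Good ω) {m n : ℕ} : ω ^ m = ω ^ n ↔ (m : ZMod 3) = (n : ZMod 3) := by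
  have hord : orderOf ω = 3 := by
    have : Fact (Nat.Prime 3) := ⟨Nat.prime_three⟩
    exact orderOf_eq_prime H.cube H.ne_one
  have hu : IsUnit ω := isUnit_iff_ne_zero.2 H.ne_zero
  constructor
  · intro h
    obtain ⟨u, rfl⟩ := hu
    have h1 : u ^ m = u ^ n := Units.ext (by push_cast; exact h)
    rw [pow_eq_pow_iff_modEq, ← orderOf_units, hord] at h1
    exact (ZMod.natCast_eq_natCast_iff _ _ _).2 h1
  · intro h
    have h1 := (ZMod.natCast_eq_natCast_iff _ _ _).1 h
    rw [← hord] at h1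
    obtain ⟨u, rfl⟩ := hu
    rw [orderOf_units] at h1
    have h2 : u ^ m = u ^ n := pow_eq_pow_iff_modEq.2 h1
    exact_mod_cast congrArg Units.val h2

section main
variable [Fintype F] (hF : Fintype.card F = 4) (H : Good ω) (G : Gens F ω) {s : threeJ3 F ω}

/-- the elements of `Ph` -/
def el (s : threeJ3 F ω) (x : F9 × F9 × ZMod 3 × ZMod 3) : threeJ3 F ω :=
  s ^ x.2.2.2.val * (G.e ^ x.2.2.1.val * (G.a x.2.1 * G.d x.1))

omit [Fintype F] in
theorem mat_pow_diag (f : F9 → ℕ) (n : ℕ) : mono ω 0 f ^ n = mono ω 0 fun z => n * f z := by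
  induction n with
  | zero =>
    rw [pow_zero, ← mono_one ω]
    congr 1
    funext z
    rw [zero_mul]
  | succ n ih =>
    rw [pow_succ, ih, mono_mul, add_zero]
    congr 1
    funext z
    rw [add_zero]
    ring

omit [Fintype F] in
theorem mat_el (hs : mat ω s = ω • 1) (x : F9 × F9 × ZMod 3 × ZMod 3) : mat ω (el G s x) =
    mono ω x.1 fun z => x.2.2.2.val + (x.2.2.1.val * ((0 - (z + x.1).1) ^ 2 + (0 - (z + x.1).2) ^ 2).val +
      ((x.2.1.1 * (z + x.1).1 + x.2.1.2 * (z + x.1).2).val + lam x.1 z)) := by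
  unfold el
  rw [map_mul, map_mul, map_mul, map_pow, map_pow, hs, G.he, G.ha, G.hd, j3A_eq, j3E_eq, j3D_eq, scalar_eq,
    mat_pow_diag, mat_pow_diag, mono_mul, mono_mul, mono_mul]
  simp only [add_zero, mul_one]

omit [Fintype F] in
include H in
theorem el_injective (hs : mat ω s = ω • 1) : Function.Injective (el G s) := by
  rintro ⟨w, a, k, r⟩ ⟨w', a', k', r'⟩ h
  have h0 := congrArg (mat ω) h
  rw [mat_el G hs, mat_el G hs] at h0
  simp only at h0
  have hw : w = w' := mono_inj H h0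
  subst hw
  have h2 : ∀ z : F9, (r.val + (k.val * ((0 - (z + w).1) ^ 2 + (0 - (z + w).2) ^ 2).val +
      ((a.1 * (z + w).1 + a.2 * (z + w).2).val + lam w z)) : ℕ) ≡
      (r'.val + (k'.val * ((0 - (z + w).1) ^ 2 + (0 - (z + w).2) ^ 2).val +
      ((a'.1 * (z + w).1 + a'.2 * (z + w).2).val + lam w z))) [MOD 3] := by
    intro z
    have h3 := congrFun (congrFun h0 (z + w)) z
    unfold mono at h3
    rw [Matrix.of_apply, Matrix.of_apply, if_pos rfl, if_pos rfl] at h3
    exact (ZMod.natCast_eq_natCast_iff _ _ _).1 ((omega_pow_cast H).1 h3)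
  have h3 : ∀ z : F9, (r - r') + (k - k') * (z.1 ^ 2 + z.2 ^ 2) + ((a.1 - a'.1) * z.1 + (a.2 - a'.2) * z.2) = 0 := by
    intro z
    have h4 := (ZMod.natCast_eq_natCast_iff _ _ _).2 (h2 (z - w))
    push_cast at h4
    rw [ZMod.natCast_zmod_val, ZMod.natCast_zmod_val, ZMod.natCast_zmod_val, ZMod.natCast_zmod_val,
      ZMod.natCast_zmod_val, ZMod.natCast_zmod_val, ZMod.natCast_zmod_val, sub_add_cancel] at h4
    linear_combination h4
  obtain ⟨e1, e2, e3, e4⟩ := form_zero _ _ _ _ h3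
  rw [sub_eq_zero] at e1 e2 e3 e4
  have ea : a = a' := Prod.ext e3 e4
  rw [ea, e1, e2]

include hF H in
/-- `3 ^ 6` divides the order of the monomial 3-group -/
theorem card_Ph [Finite (threeJ3 F ω)] : 3 ^ 6 ∣ Nat.card (Ph H) := by
  have : Fact (Nat.Prime 3) := ⟨Nat.prime_three⟩
  obtain ⟨G⟩ := exists_gens hF H
  obtain ⟨s, hs⟩ := exists_scalar H G
  obtain ⟨n, hn⟩ := (isPGroup_Ph H).exists_card_eq
  let f : F9 × F9 × ZMod 3 × ZMod 3 → Ph H := fun x => ⟨el G s x, _, _, mat_el G hs x⟩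
  have hf : Function.Injective f := fun x y h => el_injective H G hs (congrArg Subtype.val h)
  have h1 := Nat.card_le_card_of_injective f hf
  have h2 : Nat.card (F9 × F9 × ZMod 3 × ZMod 3) = 3 ^ 6 := by
    rw [Nat.card_prod, Nat.card_prod, Nat.card_prod, Nat.card_prod, Nat.card_zmod]
    norm_num
  rw [h2, hn] at h1
  rw [hn]
  exact Nat.pow_dvd_pow 3 ((Nat.pow_le_pow_iff_right (by norm_num)).1 h1)

end main

/-- the parameter of the element of order three -/
def jj : F9 := (1, 0)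

/-- its inverse -/
def jn : F9 := (-1, 0)

theorem jn_ne : jn ≠ 0 := by decide

theorem jj_add : jj + jn = 0 := by decide

theorem jj_exp : ∀ z : F9, (jj.1 * z.1 + jj.2 * z.2) = z.1 := by decide

theorem jj_e1 : jj = 0 + (0 + jj) := by decide

theorem jj_e2 : jj = 0 + (jj + 0) := by decide

theorem jj_val : ((lam jj ((0 : F9) + 0) + (jj.1 * (0 : F9).1 + jj.2 * (0 : F9).2).val : ℕ) : ZMod 3) ≠
    (((jj.1 * ((0 : F9) + jj).1 + jj.2 * ((0 : F9) + jj).2).val + lam jj (0 : F9) : ℕ) : ZMod 3) := by decide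

theorem conj_jn : F9.mul (conj9 jn) jj = jn := by decide

omit [Field F] in
theorem zero_exp (z : F9) : ((0 : F9).1 * z.1 + (0 : F9).2 * z.2).val = 0 := by
  show ((0 : ZMod 3) * z.1 + 0 * z.2).val = 0
  rw [zero_mul, zero_mul, add_zero]
  rfl

theorem j3A_zero : j3A F ω 0 = 1 := by
  rw [j3A_eq, ← mono_one ω]
  congr 1
  funext z
  exact zero_exp z

/-- **`J3`** -/
theorem nn_j3 [Fintype F] (hF : Fintype.card F = 4) (hω : ω ^ 2 + ω + 1 = 0) : NN 3 (J3 F ω) := by
  have : Fact (Nat.Prime 3) := ⟨Nat.prime_three⟩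
  have H := good_of_card hF hω
  obtain ⟨hZ, hT, hJ, -⟩ := S1625.result F hF ω hω
  have hfT : Finite (threeJ3 F ω) := Nat.finite_of_card_ne_zero (by rw [hT]; norm_num)
  have hfJ : Finite (J3 F ω) := Nat.finite_of_card_ne_zero (by rw [hJ]; norm_num)
  obtain ⟨G⟩ := exists_gens hF H
  have hPh := card_Ph hF H
  -- the element
  let z : J3 F ω := QuotientGroup.mk (G.a jj)
  have h1 : G.a jj * G.a jn = 1 := mat_injective (by
    rw [map_mul, G.ha, G.ha, relAA H, jj_add, j3A_zero, map_one])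
  have h2 : G.a jj * G.b jn = G.b jn * G.a jn := mat_injective (by
    rw [map_mul, map_mul, G.ha, G.hb _ jn_ne, relAB H _ _ jn_ne, conj_jn, G.ha])
  have hreal : IsConj z z⁻¹ := by
    refine isConj_iff.2 ⟨(QuotientGroup.mk (G.b jn) : J3 F ω)⁻¹, ?_⟩
    have h3 : (G.b jn)⁻¹ * G.a jj * (G.b jn)⁻¹⁻¹ = (G.a jj)⁻¹ := by
      rw [inv_inv, mul_assoc, h2, inv_mul_cancel_left]
      exact eq_inv_of_mul_eq_one_right h1
    exact congrArg (QuotientGroup.mk' (center (threeJ3 F ω))) h3
  have hz3 : z ^ 3 = 1 := by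
    have h4 : G.a jj ^ 3 = 1 := mat_injective (by
      rw [map_pow, G.ha, j3A_eq, mat_pow_diag, map_one, ← mono_one ω]
      ext y x
      unfold mono
      simp only [Matrix.of_apply, add_zero]
      split_ifs with h
      · rw [pow_mul, H.cube, one_pow, pow_zero]
      · rfl)
    exact congrArg (QuotientGroup.mk' (center (threeJ3 F ω))) h4
  have hz1 : z ≠ 1 := by
    intro h4
    have h5 : G.a jj ∈ center (threeJ3 F ω) := (QuotientGroup.eq_one_iff _).1 h4
    have h6 := mem_center_iff.1 h5 (G.d jj)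
    have h7 := congrArg (mat ω) h6
    rw [map_mul, map_mul, G.ha, G.hd, j3A_eq, j3D_eq, mono_mul, mono_mul] at h7
    have h8 := congrFun (congrFun h7 jj) 0
    unfold mono at h8
    rw [Matrix.of_apply, Matrix.of_apply, if_pos jj_e1, if_pos jj_e2] at h8
    exact jj_val ((omega_pow_cast H).1 h8)
  have hcen : ∀ t ∈ Ph H, (QuotientGroup.mk t : J3 F ω) ∈ centralizer ({z} : Set (J3 F ω)) := by
    rintro t ⟨w, f, ht⟩
    obtain ⟨s, hs⟩ := exists_scalar H G
    have hsc := center_eq hF H hs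
    have h5 : G.a jj * t = s ^ (w.1.val) * (t * G.a jj) := mat_injective (by
      rw [map_mul, map_mul, map_mul, map_pow, ht, G.ha, j3A_eq, hs, scalar_eq, mat_pow_diag, mono_mul, mono_mul,
        mono_mul, add_zero, zero_add, add_zero]
      ext y x
      unfold mono
      rw [Matrix.of_apply, Matrix.of_apply]
      split_ifs with h
      · rw [omega_pow_cast H]
        push_cast
        simp only [ZMod.natCast_zmod_val, add_zero, Prod.fst_add, Prod.snd_add]
        show (1 : ZMod 3) * (x.1 + w.1) + 0 * (x.2 + w.2) + _ = _ + (_ + ((1 : ZMod 3) * x.1 + 0 * x.2))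
        ring
      · rfl)
    rw [mem_centralizer_singleton_iff]
    have h6 : (QuotientGroup.mk (G.a jj * t) : J3 F ω) = QuotientGroup.mk (t * G.a jj) := by
      rw [h5, QuotientGroup.eq, hsc]
      have h7 : (s ^ w.1.val * (t * G.a jj))⁻¹ * (t * G.a jj) = (t * G.a jj)⁻¹ * (s ^ w.1.val)⁻¹ * (t * G.a jj) := by group
      have h8 : s ^ w.1.val ∈ center (threeJ3 F ω) := by
        rw [hsc]; exact pow_mem (mem_zpowers s) _
      rw [h7, mem_center_iff.1 (inv_mem h8) (t * G.a jj)⁻¹, inv_mul_cancel_right, ← hsc]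
      exact inv_mem h8
    exact h6.symm
  let ψ : Ph H →* J3 F ω := (QuotientGroup.mk' (center (threeJ3 F ω))).comp (Ph H).subtype
  have hr : ψ.range ≤ centralizer ({z} : Set (J3 F ω)) := by
    rintro _ ⟨⟨t, ht⟩, rfl⟩
    exact hcen t ht
  have hk : Nat.card ψ.ker ∣ 3 := by
    have hk' : Nat.card ψ.ker ∣ Nat.card (center (threeJ3 F ω)) := ?_
    · rwa [hZ] at hk'
    have hle : ψ.ker.map (Ph H).subtype ≤ center (threeJ3 F ω) := by
      rintro _ ⟨t, ht, rfl⟩
      exact (QuotientGroup.eq_one_iff _).1 ht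
    rw [Nat.card_congr (ψ.ker.equivMapOfInjective _ (subtype_injective _)).toEquiv]
    exact card_dvd_of_le hle
  have hc : 3 ^ 5 ∣ Nat.card ↥(centralizer ({z} : Set (J3 F ω))) := by
    refine dvd_trans ?_ (card_dvd_of_le hr)
    have h5 := ψ.ker.card_eq_card_quotient_mul_card_subgroup
    rw [Nat.card_congr (QuotientGroup.quotientKerEquivRange ψ).toEquiv] at h5
    rw [h5] at hPh
    have h6 : 3 ^ 5 * 3 ∣ Nat.card ψ.range * 3 := (by norm_num : 3 ^ 5 * 3 = 3 ^ 6) ▸ hPh.trans (Nat.mul_dvd_mul_left _ hk)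
    exact Nat.dvd_of_mul_dvd_mul_right (by norm_num) h6
  exact NN.of_real_card (n := 5) (m := 206720) (by norm_num) (orderOf_eq_prime hz3 hz1) hreal
    (by rw [hJ]; norm_num) (by norm_num) hc

end

end Cfsg.Agent.H711.JThreeRow
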