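import Cfsg.Agent.H681.GmnBond
import Cfsg.Agent.H681.GmnTypes
import Cfsg.Agent.H457.Odd.Crit
import Cfsg.Agent.H711.LieNN

/-!
# Involutions normalising a Sylow subgroup: root group data with a simple bond; `PΩ7(3)`
-/

set_option autoImplicit false
set_option linter.unusedSectionVars false

namespace Cfsg.Agent.H711.EvBond

open CoxeterSystem Cfsg.Agent.ChevalleyStructure.CoxeterGeom Cfsg.Agent.Tits.Roots Cfsg.Agent.Tits.Core
  Cfsg.Agent.Tits.RootComb Cfsg.Agent.Tits.Exchange Cfsg.Agent.Nodes.Reps Cfsg.Agent.Nodes.BNOf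
  Cfsg.Agent.Nodes.Comb
  Cfsg.Agent.Nodes.StabComb Cfsg.Agent.Nodes.ZFam
  Cfsg.Agent.Nodes.Bruhat Cfsg.Agent.Nodes.OppDec Cfsg.Agent.Nodes.LeviDec Cfsg.Agent.Nodes.NormalForm
  Cfsg.Agent.KFacts.RgdOpp Cfsg.Agent.KFacts.RgdAut Cfsg.Agent.KFacts.RgdDiag Cfsg.Agent.KFacts.RgdRigid
  Cfsg.Agent.H142.GmnPC Cfsg.Agent.H681.GmnRgd Cfsg.Agent.H681.GmnBond Cfsg.Agent.H467.OddNorm
  Cfsg.Agent.Omega.ML.Ex.Typ
open scoped commutatorElement Pointwise

variable {I W Y : Type*} [Fintype I] [DecidableEq I] [Group W] [Group Y] {M : CoxeterMatrix I}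
  {cs : CoxeterSystem M W} {A : I → I → ℤ} {h : IsCartan M A} {p : ℕ} {T : Subgroup Y} {n : I → Y}
  {X : (I → ℤ) → Subgroup Y}

theorem evIn_of_bond [Finite W] [Finite Y] [hp : Fact p.Prime] (R : RGD cs h p T n X)
    (h2 : p ≠ 2) (hG1 : RGD.Sup X {x | IsRoot cs h x} = ⊤) {i j : I} (hij : i ≠ j) (hM : M i j = 3) : EvIn p Y := by
  have hG := GG_eq_top (T := T) hG1
  obtain ⟨v, hv, hv1⟩ : ∃ v ∈ X (-sr j), v ≠ 1 := by
    have := X_ne_bot R (isRoot_sr cs h j).neg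
    by_contra h0
    push Not at h0
    exact this ((Subgroup.eq_bot_iff_forall _).2 h0)
  obtain ⟨a, ha, t, ht, b, hb, e⟩ := R.rk1 j v hv hv1
  obtain ⟨k, hke⟩ : ∃ k, k = t * n j := ⟨_, rfl⟩
  have hk : Rp cs R.nsys (cs.simple j) k := by
    have := (rp_of_mem (cs := cs) (hN := R.nsys) ht).mul (rp_simple cs R.nsys j)
    rwa [one_mul, ← hke] at this
  have e' : v = a * k * b := by rw [e, hke]; group
  have hkk : k * k ∈ T := by
    have h1 := hk.mul hk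
    rw [cs.simple_mul_simple_self] at h1
    exact h1.mem_of_one
  obtain ⟨w, hw, hw1⟩ := exists_ne_one R i
  have hinv := inverts hij hM R (inv_mem ha) (inv_mem hb) hv hk (by rw [e']; group) hw
  have hinv' : (k * k) * w * (k * k)⁻¹ = w⁻¹ := by
    rw [← hinv]; group
  obtain ⟨m, hm⟩ := R.pgrp i ⟨w, hw⟩
  have hm' : w ^ p ^ m = 1 := by simpa using congrArg Subtype.val hm
  have heven : Even (orderOf (k * k)) :=
    even_of_inverts (inv_ne_self hp.out h2 hw1 ⟨m, hm'⟩) hinv'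
  obtain ⟨P, hP⟩ := R.isPGroup_Upos.exists_le_sylow
  have hPU : (P : Subgroup Y) = RGD.Sup X (RGD.Pos cs h) :=
    eq_U_of_isPGroup R P.isPGroup' hP (by rw [hG]; exact le_top)
  refine Cfsg.Agent.H457.Odd.evIn_of_even P heven fun x hx => ?_
  have hx' : x ∈ (P : Subgroup Y) := hx
  rw [hPU] at hx'
  show _ ∈ (P : Subgroup Y)
  rw [hPU]
  exact (Subgroup.mem_normalizer_iff.1 (RGD.T_le_normalizer_U R hkk) _).1 hx'

theorem evIn_of_rgdt {l : ℕ} {M : CoxeterMatrix (Fin l)} {G : Type*} [Group G] [Finite G] (hp : p.Prime)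
    (hp2 : p ≠ 2) {i j : Fin l} (hij : i ≠ j) (hM : M i j = 3) (hG : HasRGDT p M G) : EvIn p G := by
  have : Fact p.Prime := ⟨hp⟩
  obtain ⟨A, h, T, n, X, hW, R, hX⟩ := hG
  exact evIn_of_bond R hp2 hX hij hM

/-- `PΩ7(3)` -/
theorem evIn_omega7 : EvIn 3 (Cfsg.POmega (ZMod 3) (Cfsg.quadFormOdd 3 (ZMod 3))) := by
  have : Fact (Nat.Prime 3) := ⟨Nat.prime_three⟩
  have hfin : Finite (Cfsg.POmega (ZMod 3) (Cfsg.quadFormOdd 3 (ZMod 3))) := Quotient.finite _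
  have h2 : (2 : ZMod 3) ≠ 0 := LieNN.two_ne
  obtain ⟨i, j, hij, h3, -⟩ := Cfsg.Agent.H681.GmnTypes.rigid_B Nat.prime_three (by norm_num) (n := 3) (by omega)
  exact evIn_of_rgdt Nat.prime_three (by norm_num) hij h3 (Cfsg.Agent.H410.Types.typ_PO_odd h2 (by omega))

end Cfsg.Agent.H711.EvBond
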