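import Cfsg.Agent.H711.Crit

/-!
# Growing a `p`-subgroup by one generator
-/

set_option autoImplicit false

open Subgroup

namespace Cfsg.Agent.H711.Grow

variable {G : Type*} [Group G] {p : ℕ}

/-- one more generator -/
theorem grow [Finite G] [Fact p.Prime] {H : Subgroup G} (hH : IsPGroup p H) {x : G} (hx : x ^ p = 1)
    (hn : ∀ a ∈ H, x * a * x⁻¹ ∈ H) (hxH : x ∉ H) :
    ∃ H' : Subgroup G, IsPGroup p H' ∧ H ≤ H' ∧ x ∈ H' ∧ p * Nat.card H ≤ Nat.card H' ∧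
      ∀ y ∈ H', ∃ a ∈ H, ∃ n : ℤ, y = a * x ^ n := by
  have hN : x ∈ normalizer (H : Set G) := Crit.mem_normalizer_of_forall hn
  have hc : ∀ a ∈ H, ∀ n : ℤ, x ^ n * a * (x ^ n)⁻¹ ∈ H := fun a ha n =>
    ((Subgroup.mem_normalizer_iff.1 (zpow_mem hN n)) a).1 ha
  let H' : Subgroup G :=
    { carrier := {y | ∃ a ∈ H, ∃ n : ℤ, y = a * x ^ n}
      one_mem' := ⟨1, H.one_mem, 0, by rw [zpow_zero, mul_one]⟩
      mul_mem' := by
        rintro _ _ ⟨a, ha, n, rfl⟩ ⟨b, hb, m, rfl⟩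
        refine ⟨a * (x ^ n * b * (x ^ n)⁻¹), H.mul_mem ha (hc b hb n), n + m, ?_⟩
        rw [zpow_add]
        group
      inv_mem' := by
        rintro _ ⟨a, ha, n, rfl⟩
        refine ⟨x ^ (-n) * a⁻¹ * (x ^ (-n))⁻¹, hc _ (H.inv_mem ha) (-n), -n, ?_⟩
        rw [mul_inv_rev, inv_mul_cancel_right, zpow_neg] }
  have hHH : H ≤ H' := fun a ha => ⟨a, ha, 0, by rw [zpow_zero, mul_one]⟩
  have hxH' : x ∈ H' := ⟨1, H.one_mem, 1, by rw [zpow_one, one_mul]⟩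
  have hz : IsPGroup p (zpowers x) := by
    rintro ⟨y, hy⟩
    obtain ⟨i, rfl⟩ := mem_zpowers_iff.1 hy
    refine ⟨1, Subtype.ext ?_⟩
    show (x ^ i) ^ (p ^ 1) = 1
    rw [pow_one, ← zpow_natCast, ← zpow_mul, mul_comm, zpow_mul, zpow_natCast, hx, one_zpow]
  have hsup : IsPGroup p ↥(H ⊔ zpowers x) := by
    rw [sup_comm]
    exact IsPGroup.to_sup_of_normal_right' hz hH (by rw [zpowers_le]; exact hN)
  have hle : H' ≤ H ⊔ zpowers x := by
    rintro _ ⟨a, ha, n, rfl⟩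
    exact mul_mem (mem_sup_left ha) (mem_sup_right (zpow_mem (mem_zpowers x) n))
  have hel : IsPGroup p H' := hsup.to_le hle
  refine ⟨H', hel, hHH, hxH', ?_, fun y hy => hy⟩
  obtain ⟨k, hk⟩ := hH.exists_card_eq
  obtain ⟨m, hm⟩ := hel.exists_card_eq
  have hlt : Nat.card ↥H < Nat.card ↥H' := by
    refine lt_of_le_of_ne (Nat.card_le_card_of_injective _ (inclusion_injective hHH)) fun h => hxH ?_
    have h1 : H = H' := Subgroup.eq_of_le_of_card_ge hHH h.ge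
    rw [h1]
    exact hxH'
  rw [hk, hm] at hlt ⊢
  have h2 := (Nat.pow_lt_pow_iff_right (Nat.Prime.one_lt Fact.out)).1 hlt
  calc p * p ^ k = p ^ (k + 1) := by ring
    _ ≤ p ^ m := Nat.pow_le_pow_right (Nat.Prime.pos Fact.out) h2

/-- a `p`-subgroup of the centralizer of a given order -/
theorem dvd_of_le [Finite G] [Fact p.Prime] {H K : Subgroup G} (hH : IsPGroup p H) (hle : H ≤ K) {n : ℕ}
    (hn : p ^ n ≤ Nat.card H) : p ^ n ∣ Nat.card K := by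
  obtain ⟨k, hk⟩ := hH.exists_card_eq
  refine dvd_trans ?_ (card_dvd_of_le hle)
  rw [hk] at hn ⊢
  exact Nat.pow_dvd_pow p ((Nat.pow_le_pow_iff_right (Nat.Prime.one_lt Fact.out)).1 hn)

end Cfsg.Agent.H711.Grow
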