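import Cfsg.Agent.CpAutCo3.Main
import Cfsg.Agent.H711.Grow

/-!
# The strong row for `p = 3`: `Co3`

A Sylow 3-subgroup of the centralizer of the real element `e1 * e2 * e3`, by words in the generators.
-/

set_option autoImplicit false

open Subgroup

namespace Cfsg.Agent.H711.CoThreeRow

open Cfsg Cfsg.Agent.H711.Crit Cfsg.Agent.H711.Grow Cfsg.Agent.SporRec.Co3.Chain Cfsg.Agent.SporRec.Co3.Ident
open Cfsg.Agent.CpAutCo3.EGrp Cfsg.Agent.CpAutCo3.Words Cfsg.Agent.CpAutCo3.TwoA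

/-- the inverting element -/
def wr : List ℕ := [2] ++ wtau ++ [2] ++ wtau ++ [2] ++ wtau
/-- the second outer generator -/
def ws : List ℕ := [3, 1, 4, 7, 8, 8, 3, 7, 8, 8, 6, 7, 8, 6, 8, 3, 8, 6, 3]
/-- the word of the element of order three -/
def wz : List ℕ := we1 ++ we2 ++ we3

theorem k_r : chk (wr ++ wz) (wz ++ wz ++ wr) = true := by
  decide +kernel
theorem k_s3 : chk (ws ++ ws ++ ws) [] = true := by decide +kernel
theorem k_s1 : chk (ws ++ we1) (we1 ++ wz ++ wf1 ++ ws) = true := by decide +kernel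
theorem k_s2 : chk (ws ++ we2) (we2 ++ wz ++ wf1 ++ ws) = true := by decide +kernel
theorem k_s3' : chk (ws ++ we3) (we3 ++ wz ++ wf1 ++ ws) = true := by decide +kernel
theorem k_sf1 : chk (ws ++ wf1) (wz ++ wz ++ wf1 ++ ws) = true := by decide +kernel
theorem k_sf2 : chk (ws ++ wf2) (we2 ++ we2 ++ we3 ++ wf2 ++ ws) = true := by decide +kernel
theorem k_st : chk (ws ++ wtau) (wtau ++ ws) = true := by decide +kernel
theorem k_sz : chk (ws ++ wz) (wz ++ ws) = true := by decide +kernel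
theorem k_tf1 : chk (wtau ++ wf1) (wf1 ++ wtau) = true := by decide +kernel
theorem k_tf2 : chk (wtau ++ wf2) (wf1 ++ wf1 ++ wf2 ++ wtau) = true := by decide +kernel
theorem k_tz : chk (wtau ++ wz) (wz ++ wtau) = true := by decide +kernel

/-- the inverting element -/
noncomputable def r : G3 := mw A Z W0 wr
/-- the second outer generator -/
noncomputable def s : G3 := mw A Z W0 ws
/-- the element of order three -/
noncomputable def z : G3 := e1 * e2 * e3

theorem z_eq : mw A Z W0 wz = z := by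
  unfold wz
  rw [mw_append, mw_append]; rfl

theorem rz : r * z = z * z * r := by
  have h1 := mw_eq k_r
  rwa [mw_append, mw_append, mw_append, z_eq] at h1

theorem s_cube : s ^ 3 = 1 := cube_of k_s3

theorem se1 : s * e1 * s⁻¹ = e1 * z * f1 := by
  rw [mul_inv_eq_iff_eq_mul]
  have h1 := mw_eq k_s1
  rwa [mw_append, mw_append, mw_append, mw_append, z_eq] at h1

theorem se2 : s * e2 * s⁻¹ = e2 * z * f1 := by
  rw [mul_inv_eq_iff_eq_mul]
  have h1 := mw_eq k_s2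
  rwa [mw_append, mw_append, mw_append, mw_append, z_eq] at h1

theorem se3 : s * e3 * s⁻¹ = e3 * z * f1 := by
  rw [mul_inv_eq_iff_eq_mul]
  have h1 := mw_eq k_s3'
  rwa [mw_append, mw_append, mw_append, mw_append, z_eq] at h1

theorem sf1 : s * f1 * s⁻¹ = z * z * f1 := by
  rw [mul_inv_eq_iff_eq_mul]
  have h1 := mw_eq k_sf1
  rwa [mw_append, mw_append, mw_append, mw_append, z_eq] at h1

theorem sf2 : s * f2 * s⁻¹ = e2 * e2 * e3 * f2 := by
  rw [mul_inv_eq_iff_eq_mul]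
  have h1 := mw_eq k_sf2
  rwa [mw_append, mw_append, mw_append, mw_append, mw_append] at h1

theorem st : s * tau = tau * s := comm_of k_st

theorem sz : s * z = z * s := by
  have h1 := mw_eq k_sz
  rwa [mw_append, mw_append, z_eq] at h1

theorem tz : tau * z = z * tau := by
  have h1 := mw_eq k_tz
  rwa [mw_append, mw_append, z_eq] at h1

theorem tf1 : tau * f1 * tau⁻¹ = f1 := by
  rw [mul_inv_eq_iff_eq_mul]
  exact comm_of k_tf1

theorem tf2 : tau * f2 * tau⁻¹ = f1 * f1 * f2 := by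
  rw [mul_inv_eq_iff_eq_mul]
  have h1 := mw_eq k_tf2
  rwa [mw_append, mw_append, mw_append, mw_append] at h1

/-- the abelian normal subgroup -/
theorem exists_E5 : ∃ E : Subgroup G3, El E ∧ 243 ≤ Nat.card ↥E ∧ e1 ∈ E ∧ e2 ∈ E ∧ e3 ∈ E ∧ f1 ∈ E ∧ f2 ∈ E ∧
    ∀ y ∈ E, ∃ a b c d k : ℤ, y = e1 ^ a * e2 ^ b * e3 ^ c * f1 ^ d * f2 ^ k := by
  obtain ⟨E1, k1, -, m1, n1, d1⟩ := ext_step (el_bot (G := G3)) (x := e1) e1_cube
    (by intro a ha; rw [mem_bot.1 ha, one_mul, mul_one]) (by rw [mem_bot]; exact e1_ne)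
  have d1' : ∀ y ∈ E1, ∃ a : ℤ, y = e1 ^ a := by
    intro y hy
    obtain ⟨a, ha, n, rfl⟩ := d1 y hy
    exact ⟨n, by rw [mem_bot.1 ha, one_mul]⟩
  obtain ⟨E2, k2, l2, m2, n2', d2⟩ := ext_step k1 (x := e2) e2_cube
    (by
      intro a ha
      obtain ⟨n, rfl⟩ := d1' a ha
      exact (Commute.zpow_right (show e2 * e1 = e1 * e2 from c12.symm) n).eq)
    (by
      intro h
      obtain ⟨n, hn⟩ := d1' _ h
      exact e2_not n hn)
  have d2' : ∀ y ∈ E2, ∃ a b : ℤ, y = e1 ^ a * e2 ^ b := by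
    intro y hy
    obtain ⟨a, ha, n, rfl⟩ := d2 y hy
    obtain ⟨m, rfl⟩ := d1' a ha
    exact ⟨m, n, rfl⟩
  obtain ⟨E3, k3, l3, m3, n3', d3⟩ := ext_step k2 (x := e3) e3_cube
    (by
      intro a ha
      obtain ⟨n, m, rfl⟩ := d2' a ha
      exact (Commute.mul_right (Commute.zpow_right (show e3 * e1 = e1 * e3 from c13.symm) n)
        (Commute.zpow_right (show e3 * e2 = e2 * e3 from c23.symm) m)).eq)
    (by
      intro h
      obtain ⟨n, m, hn⟩ := d2' _ h
      exact e3_not n m hn)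
  have d3' : ∀ y ∈ E3, ∃ a b c : ℤ, y = e1 ^ a * e2 ^ b * e3 ^ c := by
    intro y hy
    obtain ⟨a, ha, n, rfl⟩ := d3 y hy
    obtain ⟨m, l, rfl⟩ := d2' a ha
    exact ⟨m, l, n, rfl⟩
  have comm3 : ∀ g : G3, g * e1 = e1 * g → g * e2 = e2 * g → g * e3 = e3 * g → ∀ y ∈ E3, g * y = y * g := by
    intro g g1 g2 g3 y hy
    obtain ⟨a, b, c, rfl⟩ := d3' y hy
    exact (Commute.mul_right (Commute.mul_right (Commute.zpow_right (show Commute g e1 from g1) a)
      (Commute.zpow_right (show Commute g e2 from g2) b)) (Commute.zpow_right (show Commute g e3 from g3) c)).eq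
  have Z3 : ∀ y ∈ E3, Z * y = y * Z := comm3 Z Zc1 Zc2 Zc3
  have F3 : ∀ y ∈ E3, f1 * y = y * f1 := comm3 f1 c1f1.symm c2f1.symm c3f1.symm
  have F3' : ∀ y ∈ E3, f2 * y = y * f2 := comm3 f2 c1f2.symm c2f2.symm c3f2.symm
  obtain ⟨E4, k4, l4, m4, n4', d4⟩ := ext_step k3 (x := f1) f1_cube F3
    (by
      intro h
      have h1 := Z3 _ h
      rw [Zf1, mul_assoc] at h1
      have h2 := mul_left_cancel h1
      have h3 : f1 * Z = 1 * Z := by rw [one_mul]; exact h2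
      exact f1_ne (mul_right_cancel h3))
  obtain ⟨E5, k5, l5, m5, n5', d5⟩ := ext_step k4 (x := f2) f2_cube
    (by
      intro a ha
      obtain ⟨b, hb, n, rfl⟩ := d4 a ha
      exact (Commute.mul_right (show Commute f2 b from F3' b hb)
        (Commute.zpow_right (show Commute f2 f1 from cff.symm) n)).eq)
    (by
      intro h
      obtain ⟨b, hb, n, hn⟩ := d4 _ h
      have hbf : b * f1 ^ n = f1 ^ n * b := ((Commute.zpow_left (show Commute f1 b from F3 b hb) n).eq).symm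
      have h1 : Z * (b * f1 ^ n) = b * f1 ^ n * (b * f1 ^ n) * Z := by rw [← hn]; exact Zf2
      have h2 : b * f1 ^ n * (b * f1 ^ n) = b * b * (f1 ^ n * f1 ^ n) := by
        calc b * f1 ^ n * (b * f1 ^ n) = b * (f1 ^ n * b) * f1 ^ n := by simp only [mul_assoc]
          _ = b * b * (f1 ^ n * f1 ^ n) := by rw [← hbf]; simp only [mul_assoc]
      rw [h2, ← mul_assoc, Z3 b hb, mul_assoc, Zf1_pow] at h1
      have h3 : b * (f1 ^ n * f1 ^ n * Z) = b * (b * (f1 ^ n * f1 ^ n * Z)) :=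
        h1.trans (by simp only [mul_assoc])
      have h4 := mul_left_cancel h3
      have h5 : (1 : G3) * (f1 ^ n * f1 ^ n * Z) = b * (f1 ^ n * f1 ^ n * Z) := by rw [one_mul]; exact h4
      have h6 := mul_right_cancel h5
      rw [← h6, one_mul] at hn
      exact f2_not n hn)
  have hc0 : Nat.card ↥(⊥ : Subgroup G3) = 1 := Subgroup.card_bot
  refine ⟨E5, k5, by omega, l5 (l4 (l3 (l2 m1))), l5 (l4 (l3 m2)), l5 (l4 m3), l5 m4, m5, fun y hy => ?_⟩
  obtain ⟨b, hb, n, rfl⟩ := d5 y hy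
  obtain ⟨c, hc, m, rfl⟩ := d4 b hb
  obtain ⟨i, j, k, rfl⟩ := d3' c hc
  exact ⟨i, j, k, m, n, rfl⟩

/-- a 3-subgroup of order `3 ^ 7` of the centralizer -/
theorem card_cent_z : 3 ^ 7 ∣ Nat.card ↥(centralizer ({z} : Set G3)) := by
  have : Fact (Nat.Prime 3) := ⟨Nat.prime_three⟩
  obtain ⟨E, hE, h243, m1, m2, m3, m4, m5, hd⟩ := exists_E5
  have mz : z ∈ E := mul_mem (mul_mem m1 m2) m3
  have hconj : ∀ x : G3, x * e1 * x⁻¹ ∈ E → x * e2 * x⁻¹ ∈ E → x * e3 * x⁻¹ ∈ E → x * f1 * x⁻¹ ∈ E →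
      x * f2 * x⁻¹ ∈ E → ∀ a ∈ E, x * a * x⁻¹ ∈ E := by
    intro x h1 h2 h3 h4 h5 a ha
    obtain ⟨i, j, k, l, m, rfl⟩ := hd a ha
    have e : x * (e1 ^ i * e2 ^ j * e3 ^ k * f1 ^ l * f2 ^ m) * x⁻¹ =
        (x * e1 * x⁻¹) ^ i * (x * e2 * x⁻¹) ^ j * (x * e3 * x⁻¹) ^ k * (x * f1 * x⁻¹) ^ l * (x * f2 * x⁻¹) ^ m := by
      simp only [conj_zpow]
      group
    rw [e]
    exact mul_mem (mul_mem (mul_mem (mul_mem (zpow_mem h1 i) (zpow_mem h2 j)) (zpow_mem h3 k)) (zpow_mem h4 l))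
      (zpow_mem h5 m)
  have q1 : tau * e1 * tau⁻¹ = e2 := by rw [mul_inv_eq_iff_eq_mul]; exact t1
  have q2 : tau * e2 * tau⁻¹ = e3 := by rw [mul_inv_eq_iff_eq_mul]; exact t2
  have q3 : tau * e3 * tau⁻¹ = e1 := by rw [mul_inv_eq_iff_eq_mul]; exact t3
  have htE : ∀ a ∈ E, tau * a * tau⁻¹ ∈ E := hconj tau (by rw [q1]; exact m2) (by rw [q2]; exact m3)
    (by rw [q3]; exact m1) (by rw [tf1]; exact m4)
    (by rw [tf2]; exact mul_mem (mul_mem m4 m4) m5)
  have hsE : ∀ a ∈ E, s * a * s⁻¹ ∈ E := hconj s (by rw [se1]; exact mul_mem (mul_mem m1 mz) m4)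
    (by rw [se2]; exact mul_mem (mul_mem m2 mz) m4) (by rw [se3]; exact mul_mem (mul_mem m3 mz) m4)
    (by rw [sf1]; exact mul_mem (mul_mem mz mz) m4) (by rw [sf2]; exact mul_mem (mul_mem (mul_mem m2 m2) m3) m5)
  obtain ⟨F, hF, lF, mF, nF, dF⟩ := grow hE.isPGroup tau_cube htE (by
    intro h
    have h1 := hE.comm _ h _ m1
    rw [t1] at h1
    have h2 := mul_right_cancel h1
    exact e2_not 1 (by rw [zpow_one, h2]))
  obtain ⟨P, hP, lP, mP, nP, dP⟩ := grow hF s_cube (by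
    intro a ha
    obtain ⟨b, hb, n, rfl⟩ := dF a ha
    have h1 : s * (b * tau ^ n) * s⁻¹ = (s * b * s⁻¹) * tau ^ n := by
      have h2 : s * tau ^ n = tau ^ n * s := ((show Commute s tau from st).zpow_right n).eq
      calc s * (b * tau ^ n) * s⁻¹ = (s * b * s⁻¹) * (s * tau ^ n) * s⁻¹ := by group
        _ = _ := by rw [h2, mul_assoc, mul_inv_cancel_right]
    rw [h1]
    exact mul_mem (lF (hsE b hb)) (zpow_mem mF n)) (by
    intro h
    obtain ⟨b, hb, n, hn⟩ := dF _ h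
    have hZt : ∀ n : ℤ, Z * (tau ^ n * e1 * (tau ^ n)⁻¹) = tau ^ n * e1 * (tau ^ n)⁻¹ * Z := by
      intro n
      have c1 : Commute Z (tau ^ n) := (show Commute Z tau from Zct).zpow_right n
      exact ((c1.mul_right (show Commute Z e1 from Zc1)).mul_right c1.inv_right).eq
    have h1 : tau ^ n * e1 * (tau ^ n)⁻¹ ∈ E :=
      ((Subgroup.mem_normalizer_iff.1 (zpow_mem (Crit.mem_normalizer_of_forall htE) n)) e1).1 m1
    have h2 : s * e1 * s⁻¹ = tau ^ n * e1 * (tau ^ n)⁻¹ := by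
      rw [hn]
      calc b * tau ^ n * e1 * (b * tau ^ n)⁻¹ = b * (tau ^ n * e1 * (tau ^ n)⁻¹) * b⁻¹ := by group
        _ = _ := by rw [hE.comm _ hb _ h1, mul_inv_cancel_right]
    have h3 := hZt n
    rw [← h2, se1] at h3
    have hZz : Commute Z (e1 * z) := ((show Commute Z e1 from Zc1).mul_right
      (((show Commute Z e1 from Zc1).mul_right (show Commute Z e2 from Zc2)).mul_right (show Commute Z e3 from Zc3)))
    have h4 : Z * f1 = f1 * Z := by
      have h5 : e1 * z * (Z * f1) = e1 * z * (f1 * Z) := by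
        rw [← mul_assoc, ← hZz.eq, mul_assoc, h3, mul_assoc]
      exact mul_left_cancel h5
    rw [Zf1, mul_assoc] at h4
    have h5 := mul_left_cancel h4
    have h6 : f1 * Z = 1 * Z := by rw [one_mul]; exact h5
    exact f1_ne (mul_right_cancel h6))
  refine dvd_of_le hP (n := 7) ?_ (by omega)
  intro y hy
  obtain ⟨b, hb, n, rfl⟩ := dP y hy
  obtain ⟨c, hc, m, rfl⟩ := dF b hb
  refine mul_mem (mul_mem ?_ (zpow_mem ?_ m)) (zpow_mem ?_ n)
  · exact mem_centralizer_singleton_iff.2 (hE.comm c hc z mz)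
  · exact mem_centralizer_singleton_iff.2 tz
  · exact mem_centralizer_singleton_iff.2 sz

theorem nn_G3 : NN 3 G3 := by
  have : Fact (Nat.Prime 3) := ⟨Nat.prime_three⟩
  obtain ⟨E, hE, h243, m1, m2, m3, m4, m5, hd⟩ := exists_E5
  have mz : z ∈ E := mul_mem (mul_mem m1 m2) m3
  have hz3 : z ^ 3 = 1 := hE.exp z mz
  refine NN.of_real_card (n := 7) (m := 226688000) (by norm_num) (orderOf_eq_prime hz3 e123_ne) ?_
    (by rw [isCo3_G3.2]; norm_num) (by norm_num) card_cent_z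
  refine isConj_iff.2 ⟨r, ?_⟩
  have h1 : z * z = z⁻¹ := by
    rw [eq_inv_iff_mul_eq_one, ← pow_two, ← pow_succ]
    exact hz3
  rw [mul_inv_eq_iff_eq_mul, rz, h1]

/-- **`Co3`** -/
theorem nn_co3 : NN 3 Spor.Co3 := nn_G3.congr SporRec.Co3.Model.equivCo3

end Cfsg.Agent.H711.CoThreeRow
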