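import Cfsg.Agent.H711.RowsA
import Cfsg.Agent.H711.CoThreeRow
import Cfsg.Agent.S2071

/-!
# The strong row for `p = 3`: `Co3`
-/

set_option autoImplicit false

namespace Cfsg.Agent.H711.RowCo3

open Cfsg Cfsg.Agent.H711.Crit Cfsg.Agent.H712.Gmn Cfsg.Agent.H711.RowsA

universe u

theorem co3 {K : Type u} [Group K] [IsSimpleGroup K] (h : Spor.IsoCo3 K) : RowS 3 K := by
  have hc : Nat.card ↥Spor.Co3 = _ := NotCT.Orders.co3 ⟨MulEquiv.refl _⟩
  have : Finite ↥Spor.Co3 := Nat.finite_of_card_ne_zero (by rw [hc]; norm_num)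
  obtain ⟨e⟩ := h
  exact row_of e (not_prime (by rw [hc]; norm_num)) S2071.result (by norm_num) CoThreeRow.nn_co3

end Cfsg.Agent.H711.RowCo3
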