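import Cfsg.Agent.H711.RowsB
import Cfsg.Agent.H711.RowCo3
import Cfsg.Agent.H711.EvBond
import Cfsg.Agent.SporadicA.M11Facts
import Cfsg.Agent.UGT.End.MEleven

/-!
# Involutions normalising a Sylow 3-subgroup: sporadic groups
-/

set_option autoImplicit false

open Subgroup

namespace Cfsg.Agent.H711.EvA

open Cfsg Cfsg.Agent.H711.Crit Cfsg.Agent.H457.Odd Cfsg.Agent.H467.OddNorm

universe u

/-- from the standard copy to all copies -/
theorem ev_of {S : Type} [Group S] [Finite S] {K : Type u} [Group K] [IsSimpleGroup K] (e : K ≃* S)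
    (hc : ¬ (Nat.card S).Prime) {n : ℕ} (hOut : Nat.card (Out S) = n) (hn : n % 3 ≠ 0) (h : EvIn 3 S) : Ev 3 K := by
  have : Fact (Nat.Prime 3) := ⟨Nat.prime_three⟩
  have : IsSimpleGroup S := e.isSimpleGroup_congr.1 inferInstance
  refine Ev.congr e.symm (row_of_evIn (RowCount.center_eq_bot hc) ?_ h)
  intro h0
  have h1 : 3 ∣ Nat.card (Out S) := h0
  rw [hOut] at h1
  omega

/-! ### `M11`, `Suz` -/

theorem evIn_m11 {K : Type*} [Group K] (h : Spor.IsoM11 K) : EvIn 3 K := by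
  have : Fact (Nat.Prime 3) := ⟨Nat.prime_three⟩
  have hc := NotCT.Orders.m11 h
  have : Finite K := Nat.finite_of_card_ne_zero (by rw [hc]; norm_num)
  have hG : IsM11 K := UGT.End.MEleven.isM11 h
  obtain ⟨Q⟩ : Nonempty (Sylow 3 K) := inferInstance
  have h1 : Nat.card (Q : Subgroup K) = 3 ^ 2 := by
    rw [Q.card_eq_multiplicity, hc, show 7920 = 3 ^ 2 * 880 by norm_num,
      Nat.factorization_mul (by norm_num) (by norm_num), Finsupp.add_apply,
      Nat.factorization_eq_zero_of_not_dvd (by norm_num : ¬ 3 ∣ 880), Nat.Prime.factorization_pow Nat.prime_three,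
      Finsupp.single_eq_same]
  have hcomm := (IsPGroup.isMulCommutative_of_card_eq_prime_sq h1).is_comm.comm
  obtain ⟨z, hzQ, hz, -⟩ := exists_central Q (by rw [hc]; norm_num)
  refine evIn_of_real (by norm_num) Q hzQ (fun h0 => ?_)
    (fun x hx => congrArg Subtype.val (hcomm (⟨x, hx⟩ : (Q : Subgroup K)) ⟨z, hzQ⟩)) ?_
  · rw [h0, orderOf_one] at hz
    norm_num at hz
  · exact SporadicA.M11Three.isConj_inv hG (fun u hu => SporadicA.M11Facts.card_centralizer_two hG hu)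
      (fun y hy => SporadicA.M11Facts.card_centralizer_five hG hy)
      (fun x hx => SporadicA.M11Sylow.card_centralizer_eleven hG hx) Q z hzQ

theorem evIn_suz : EvIn 3 Spor.Suz := by
  have : Fact (Nat.Prime 3) := ⟨Nat.prime_three⟩
  have hc : Nat.card Spor.Suz = 448345497600 := NotCT.Orders.suz ⟨MulEquiv.refl _⟩
  have : Finite Spor.Suz := Nat.finite_of_card_ne_zero (by rw [hc]; norm_num)
  obtain ⟨h1, h2, h3, h4, h5⟩ := Cfsg.Agent.SuzThree.Final.transport (MulEquiv.refl Spor.Suz)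
  set A := Cfsg.Agent.SuzThree.Elementary.A0.map (MulEquiv.refl Spor.Suz).toMonoidHom with hA
  have h6 : EvIn 3 ↥(normalizer (A : Set Spor.Suz)) :=
    evIn_of_surjective (by norm_num) (QuotientGroup.mk' (A.subgroupOf (normalizer (A : Set Spor.Suz))))
      (QuotientGroup.mk'_surjective _) (evIn_m11 h5)
  refine evIn_of_subgroup (normalizer (A : Set Spor.Suz)) ?_ h6
  have h7 : Nat.card ↥(normalizer (A : Set Spor.Suz)) = 7920 * 3 ^ 5 := by
    rw [Subgroup.card_eq_card_quotient_mul_card_subgroup (A.subgroupOf (normalizer (A : Set Spor.Suz))),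
      NotCT.Orders.m11 h5, Nat.card_congr (subgroupOfEquivOfLe le_normalizer).toEquiv, h2]
  have h8 := (normalizer (A : Set Spor.Suz)).card_mul_index
  rw [h7, hc] at h8
  intro h9
  obtain ⟨c, hc'⟩ := h9
  rw [hc'] at h8
  omega

/-! ### `Fi22` -/

theorem evIn_fi22 : EvIn 3 Spor.Fi22 := by
  have : Fact (Nat.Prime 3) := ⟨Nat.prime_three⟩
  have hc : Nat.card Spor.Fi22 = 64561751654400 := NotCT.Orders.fi22 ⟨MulEquiv.refl _⟩
  have : Finite Spor.Fi22 := Nat.finite_of_card_ne_zero (by rw [hc]; norm_num)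
  obtain ⟨e⟩ := S1686.result
  have hfin : Finite (POmega (ZMod 3) (quadFormOdd 3 (ZMod 3))) := Quotient.finite _
  have h1 := EvIn.congr e.symm EvBond.evIn_omega7
  refine evIn_of_subgroup _ ?_ h1
  rw [S1685.result]
  norm_num

/-! ### `McL`, `Ly`, `Co2` -/

open Cfsg.Agent.H711.TwoAnReal

theorem evIn_mcl : EvIn 3 Spor.McL := by
  have : Fact (Nat.Prime 3) := ⟨Nat.prime_three⟩
  obtain ⟨hf, -, hc, ⟨L⟩⟩ := TypeM.FactsMcL.exists_mt_mcl
  obtain ⟨z, u, f, hz, hu, -, hzu, -, -, hC⟩ := CpAutLy.McLElt.exists_data (M := Spor.McL) ⟨MulEquiv.refl _⟩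
  have hu2 : u * u = 1 := by rw [← pow_two, ← hu, pow_orderOf_eq_one]
  have hu1 : u ≠ 1 := by
    intro h0
    rw [h0, orderOf_one] at hu
    norm_num at hu
  refine evIn_of_real_card (n := 6) (m := 1232000) (by norm_num) hz
    (real_mt (by norm_num) L (by rw [← hz, pow_orderOf_eq_one]) hu2 hu1 hzu) (by rw [hc]; norm_num) (by norm_num) ?_
  norm_num
  exact hC

theorem evIn_ly : EvIn 3 Spor.Ly := by
  have : Fact (Nat.Prime 3) := ⟨Nat.prime_three⟩
  have hfin : Finite Cfsg.Spor.Ly := Cfsg.Agent.Ly.Setup.finite_ly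
  have hc : Nat.card Spor.Ly = 51765179004000000 := NotCT.Orders.ly ⟨MulEquiv.refl _⟩
  obtain ⟨x, hx⟩ := Cfsg.Agent.CpAutLy.Base.exists_three
  obtain ⟨L, htx, -⟩ := hx.cycle
  refine evIn_of_real_card (n := 7) (m := 23669492000000) (by norm_num) hx.ord
    (real_mt (by norm_num) L (by rw [← hx.ord, pow_orderOf_eq_one]) L.t_mul_t L.t_ne htx.symm) (by rw [hc]; norm_num)
    (by norm_num) ?_
  have h1 := (center ↥(centralizer ({x} : Set Spor.Ly))).card_eq_card_quotient_mul_card_subgroup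
  rw [hx.zcard, NotCT.Orders.mcl hx.quot] at h1
  rw [h1]
  norm_num

theorem evIn_co2 : EvIn 3 Spor.Co2 := by
  have : Fact (Nat.Prime 3) := ⟨Nat.prime_three⟩
  have hc : Nat.card Spor.Co2 = 42305421312000 := NotCT.Orders.co2 ⟨MulEquiv.refl _⟩
  have hm : Nat.card Spor.McL = 898128000 := NotCT.Orders.mcl ⟨MulEquiv.refl _⟩
  have : Finite Spor.Co2 := Nat.finite_of_card_ne_zero (by rw [hc]; norm_num)
  have hle : Spor.McL ≤ Spor.Co2 := by
    rintro g ⟨⟨h1, -⟩, h2⟩
    exact ⟨h1, h2⟩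
  refine evIn_of_injective_card (n := 6) (inclusion hle) (inclusion_injective hle) ?_ ?_ evIn_mcl
  · rw [hc]; norm_num
  · rw [hm]; norm_num

/-! ### `Co3`, `M` -/

open Cfsg.Agent.H711.CoThreeRow Cfsg.Agent.SporRec.Co3.Chain Cfsg.Agent.SporRec.Co3.Ident
open Cfsg.Agent.CpAutCo3.EGrp Cfsg.Agent.CpAutCo3.Words Cfsg.Agent.CpAutCo3.TwoA in
theorem evIn_G3 : EvIn 3 G3 := by
  have : Fact (Nat.Prime 3) := ⟨Nat.prime_three⟩
  obtain ⟨E, hE, h243, m1, m2, m3, m4, m5, hd⟩ := exists_E5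
  have mz : z ∈ E := mul_mem (mul_mem m1 m2) m3
  have hz3 : z ^ 3 = 1 := hE.exp z mz
  have hf : Finite G3 := Nat.finite_of_card_ne_zero (by rw [isCo3_G3.2]; norm_num)
  refine evIn_of_real_card (n := 7) (m := 226688000) (by norm_num) (orderOf_eq_prime hz3 e123_ne) ?_
    (by rw [isCo3_G3.2]; norm_num) (by norm_num) card_cent_z
  refine isConj_iff.2 ⟨r, ?_⟩
  have h1 : z * z = z⁻¹ := by
    rw [eq_inv_iff_mul_eq_one, ← pow_two, ← pow_succ]
    exact hz3
  rw [mul_inv_eq_iff_eq_mul, rz, h1]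

theorem evIn_co3 : EvIn 3 Spor.Co3 := by
  have : Fact (Nat.Prime 3) := ⟨Nat.prime_three⟩
  have hf : Finite Cfsg.Agent.SporRec.Co3.Chain.G3 := Nat.finite_of_card_ne_zero (by
    rw [Cfsg.Agent.SporRec.Co3.Chain.isCo3_G3.2]; norm_num)
  exact EvIn.congr SporRec.Co3.Model.equivCo3 evIn_G3

end Cfsg.Agent.H711.EvA
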