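import Mathlib
import Cfsg.Agent.ClassicalGeometry.Eichler
import Cfsg.Agent.LieClassical.OrthForms
import Cfsg.Agent.H711.Crit

/-!
# The centralizer of a Sylow 3-subgroup of `PΩ8+(3)`

It is generated by a long root element, which is real.
-/

set_option autoImplicit false

open QuadraticMap Matrix Cfsg.Agent.ClassicalGeometry.Reflection Cfsg.Agent.ClassicalGeometry.Eichler
open Cfsg.Agent.LieClassical.OrthForms
open scoped commutatorElement

namespace Cfsg.Agent.H711.EvOmega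

open Cfsg

/-- the index set -/
abbrev I8 : Type := Fin 4 ⊕ Fin 4
/-- the field -/
abbrev F3 : Type := ZMod 3
/-- the form -/
abbrev Q8 : QuadraticForm F3 (I8 → F3) := plusForm 4 (ZMod 3)

/-! ### matrices -/

theorem mul_single' (G : Matrix I8 I8 F3) (p q a b : I8) :
    (G * Matrix.single p q (1 : F3)) a b = if b = q then G a p else 0 := by
  by_cases h : b = q
  · subst h
    rw [Matrix.mul_single_apply_same, mul_one, if_pos rfl]
  · rw [Matrix.mul_single_apply_of_ne _ _ _ _ _ h, if_neg h]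

theorem single_mul' (G : Matrix I8 I8 F3) (p q a b : I8) :
    (Matrix.single p q (1 : F3) * G) a b = if a = p then G q b else 0 := by
  by_cases h : a = p
  · subst h
    rw [Matrix.single_mul_apply_same, one_mul, if_pos rfl]
  · rw [Matrix.single_mul_apply_of_ne _ _ _ _ _ h, if_neg h]

/-- `E(u, w) - 1` for basis vectors -/
def Nm (p q r s : I8) : Matrix I8 I8 F3 := Matrix.single p q 1 - Matrix.single r s 1

theorem key {G : Matrix I8 I8 F3} {p q r s : I8} (h : G * Nm p q r s = Nm p q r s * G) (a b : I8) :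
    (if b = q then G a p else 0) - (if b = s then G a r else 0) =
      (if a = p then G q b else 0) - (if a = r then G s b else 0) := by
  have h1 := congrFun (congrFun h a) b
  unfold Nm at h1
  rwa [Matrix.mul_sub, Matrix.sub_mul, Matrix.sub_apply, Matrix.sub_apply, mul_single', mul_single', single_mul',
    single_mul'] at h1

theorem comm_matrix {G : Matrix I8 I8 F3}
    (h1 : ∀ j : Fin 4, j ≠ 0 → G * Nm (.inl j) (.inr 0) (.inl 0) (.inr j) = Nm (.inl j) (.inr 0) (.inl 0) (.inr j) * G)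
    (h2 : ∀ j : Fin 4, j ≠ 0 → G * Nm (.inr j) (.inr 0) (.inl 0) (.inl j) = Nm (.inr j) (.inr 0) (.inl 0) (.inl j) * G)
    (h3 : ∀ j : Fin 4, j ≠ 0 → j ≠ 1 →
      G * Nm (.inl j) (.inr 1) (.inl 1) (.inr j) = Nm (.inl j) (.inr 1) (.inl 1) (.inr j) * G)
    (h4 : ∀ j : Fin 4, j ≠ 0 → j ≠ 1 →
      G * Nm (.inr j) (.inr 1) (.inl 1) (.inl j) = Nm (.inr j) (.inr 1) (.inl 1) (.inl j) * G)
    {l b c : F3} (hl : G (.inl 0) (.inl 0) = l) (hb : G (.inl 0) (.inr 1) = b) (hc : G (.inl 0) (.inr 0) = c) :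
    G = l • 1 + b • Nm (.inl 0) (.inr 1) (.inl 1) (.inr 0) + c • Matrix.single (.inl 0) (.inr 0) 1 := by
  have F1 : ∀ a : I8, a ≠ .inl 0 → G a (.inl 0) = 0 := by
    intro a ha
    by_cases ha1 : a = .inl 1
    · have := key (h1 2 (by decide)) a (.inr 2)
      rw [ha1] at this ⊢
      simpa using this
    · have := key (h1 1 (by decide)) a (.inr 1)
      simpa [ha, ha1] using this
  have F2 : ∀ j : Fin 4, j ≠ 0 → ∀ a : I8, a ≠ .inl 0 → a ≠ .inl j → G a (.inl j) = 0 := by
    intro j hj a ha ha'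
    have := key (h1 j hj) a (.inr 0)
    simpa [ha, ha', hj.symm] using this
  have F3' : ∀ j : Fin 4, j ≠ 0 → ∀ a : I8, a ≠ .inl 0 → a ≠ .inr j → G a (.inr j) = 0 := by
    intro j hj a ha ha'
    have := key (h2 j hj) a (.inr 0)
    simpa [ha, ha', hj.symm] using this
  have F4 : ∀ j : Fin 4, j ≠ 0 → G (.inr j) (.inr j) = l := by
    intro j hj
    have := key (h1 j hj) (.inl 0) (.inr j)
    rw [← hl]
    simpa [hj, hj.symm] using this.symm
  have F5 : ∀ j : Fin 4, j ≠ 0 → G (.inl j) (.inl j) = l := by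
    intro j hj
    have := key (h2 j hj) (.inl 0) (.inl j)
    rw [← hl]
    simpa [hj, hj.symm] using this.symm
  have F6 : G (.inr 0) (.inr 0) = l := by
    have := key (h1 1 (by decide)) (.inl 1) (.inr 0)
    rw [← F5 1 (by decide)]
    simpa using this.symm
  have F7 : ∀ j : Fin 4, j ≠ 0 → G (.inr j) (.inr 0) = - G (.inl 0) (.inl j) := by
    intro j hj
    have := key (h1 j hj) (.inl 0) (.inr 0)
    have h5 : G (.inl 0) (.inl j) = - G (.inr j) (.inr 0) := by simpa [hj, hj.symm] using this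
    rw [h5, neg_neg]
  have F8 : ∀ j : Fin 4, j ≠ 0 → G (.inl j) (.inr 0) = - G (.inl 0) (.inr j) := by
    intro j hj
    have := key (h2 j hj) (.inl 0) (.inr 0)
    have h5 : G (.inl 0) (.inr j) = - G (.inl j) (.inr 0) := by simpa [hj, hj.symm] using this
    rw [h5, neg_neg]
  have F9 : ∀ j : Fin 4, j ≠ 0 → G (.inl 0) (.inl j) = 0 := by
    intro j hj
    by_cases hj1 : j = 1
    · have := key (h3 2 (by decide) (by decide)) (.inl 0) (.inr 2)
      rw [hj1]
      simpa using this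
    · have := key (h3 j hj hj1) (.inl 0) (.inr 1)
      simpa [hj, hj.symm, hj1, Ne.symm hj1] using this
  have F10 : ∀ j : Fin 4, j ≠ 0 → j ≠ 1 → G (.inl 0) (.inr j) = 0 := by
    intro j hj hj1
    have := key (h4 j hj hj1) (.inl 0) (.inr 1)
    simpa [hj, hj.symm, hj1, Ne.symm hj1] using this
  ext a x
  rw [Matrix.add_apply, Matrix.add_apply, Matrix.smul_apply, Matrix.smul_apply, Matrix.smul_apply, Nm, Matrix.sub_apply]
  rcases x with x | x
  · have e1 : ∀ p q : Fin 4, ∀ r : I8, Matrix.single r (.inr q) (1 : F3) a (.inl p : I8) = 0 := by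
      intro p q r
      rw [Matrix.single_apply, if_neg]
      rintro ⟨-, h⟩
      exact absurd h (by simp)
    rw [e1, e1, e1, sub_zero, smul_zero, smul_zero, add_zero, add_zero, smul_eq_mul]
    by_cases hx : x = 0
    · rw [hx]
      by_cases ha : a = .inl 0
      · rw [ha, hl, Matrix.one_apply_eq, mul_one]
      · rw [F1 a ha, Matrix.one_apply_ne ha, mul_zero]
    · by_cases ha : a = .inl x
      · rw [ha, F5 x hx, Matrix.one_apply_eq, mul_one]
      · rw [Matrix.one_apply_ne ha, mul_zero]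
        by_cases ha0 : a = .inl 0
        · rw [ha0, F9 x hx]
        · exact F2 x hx a ha0 ha
  · by_cases hx : x = 0
    · subst hx
      rw [Matrix.single_apply_of_col_ne _ _ (by decide : (Sum.inr 1 : I8) ≠ .inr 0)]
      rcases a with a | a
      · rw [Matrix.one_apply_ne (by simp)]
        by_cases ha : a = 0
        · subst ha
          rw [hc, Matrix.single_apply_of_row_ne (by decide : (Sum.inl 1 : I8) ≠ .inl 0), Matrix.single_apply_same]
          simp
        · rw [F8 a ha, Matrix.single_apply_of_row_ne (i := (Sum.inl 0 : I8)) (by simpa using (Ne.symm ha))]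
          by_cases ha1 : a = 1
          · subst ha1
            rw [hb, Matrix.single_apply_same]
            simp
          · rw [F10 a ha ha1, Matrix.single_apply_of_row_ne (by simpa using (Ne.symm ha1))]
            simp
      · rw [Matrix.single_apply_of_row_ne (by simp), Matrix.single_apply_of_row_ne (by simp)]
        by_cases ha : a = 0
        · subst ha
          rw [F6, Matrix.one_apply_eq]
          simp
        · rw [F7 a ha, F9 a ha, Matrix.one_apply_ne (by simpa using ha)]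
          simp
    · rw [Matrix.single_apply_of_col_ne (j := (Sum.inr 0 : I8)) _ _ (by simpa using (Ne.symm hx)),
        Matrix.single_apply_of_col_ne (j := (Sum.inr 0 : I8)) _ _ (by simpa using (Ne.symm hx))]
      by_cases ha : a = .inr x
      · subst ha
        rw [F4 x hx, Matrix.one_apply_eq, Matrix.single_apply_of_row_ne (by simp)]
        simp
      · rw [Matrix.one_apply_ne ha]
        by_cases ha0 : a = .inl 0
        · subst ha0
          by_cases hx1 : x = 1
          · subst hx1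
            rw [hb, Matrix.single_apply_same]
            simp
          · rw [F10 x hx hx1, Matrix.single_apply_of_col_ne _ _ (by simpa using (Ne.symm hx1))]
            simp
        · rw [F3' x hx a ha0 ha, Matrix.single_apply_of_row_ne (Ne.symm ha0)]
          simp

/-! ### elements -/

/-- the isometry group -/
abbrev O8 : Type := ↥(isometryGroup F3 (⇑Q8))

/-- the matrix of an isometry -/
def mat (g : O8) : Matrix I8 I8 F3 := ((g : Matrix.GeneralLinearGroup I8 F3) : Matrix I8 I8 F3)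

theorem mat_mul (g h : O8) : mat (g * h) = mat g * mat h := rfl

theorem mat_one : mat 1 = 1 := rfl

theorem mat_injective : Function.Injective mat := fun _ _ h => Subtype.ext (Units.ext h)

theorem mat_eichler {u w : I8 → F3} (hu : Q8 u = 0) (huw : polar (⇑Q8) u w = 0) :
    mat (eichlerIso Q8 u w hu huw) = eichlerMatrix Q8 u w := rfl

theorem q_mulVec (g : O8) (x : I8 → F3) : Q8 (mat g *ᵥ x) = Q8 x := (mem_isometryGroup_iff _ _).1 g.2 x

/-- basis -/
def e (i : Fin 4) : I8 → F3 := Pi.single (.inl i) 1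
/-- basis -/
def f (i : Fin 4) : I8 → F3 := Pi.single (.inr i) 1

theorem q_apply (x : I8 → F3) : Q8 x = ∑ i : Fin 4, x (.inl i) * x (.inr i) := by
  have := congrFun (coe_plusForm (m := 4) (F := ZMod 3)) x
  exact this

theorem polar_e (i : Fin 4) (x : I8 → F3) : polar (⇑Q8) (e i) x = x (.inr i) := by
  rw [polar_plusForm, Finset.sum_eq_single i]
  · simp [e]
  · intro j _ hj
    simp [e, hj]
  · intro h
    exact absurd (Finset.mem_univ i) h

theorem polar_f (i : Fin 4) (x : I8 → F3) : polar (⇑Q8) (f i) x = x (.inl i) := by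
  rw [polar_plusForm, Finset.sum_eq_single i]
  · simp [f]
  · intro j _ hj
    simp [f, hj]
  · intro h
    exact absurd (Finset.mem_univ i) h

theorem q_e (i : Fin 4) : Q8 (e i) = 0 := by
  rw [q_apply]
  exact Finset.sum_eq_zero fun j _ => by simp [e]

theorem q_f (i : Fin 4) : Q8 (f i) = 0 := by
  rw [q_apply]
  exact Finset.sum_eq_zero fun j _ => by simp [f]

theorem polarVec_e (i : Fin 4) : polarVec (⇑Q8) (e i) = f i := by
  funext k
  rw [polarVec_apply, polar_e, f]
  simp [Pi.single_apply, eq_comm]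

theorem polarVec_f (i : Fin 4) : polarVec (⇑Q8) (f i) = e i := by
  funext k
  rw [polarVec_apply, polar_f, e]
  simp [Pi.single_apply, eq_comm]

theorem eichler_ee (i j : Fin 4) : eichlerMatrix Q8 (e i) (e j) = 1 + Nm (.inl j) (.inr i) (.inl i) (.inr j) := by
  rw [eichlerMatrix_def, q_e, zero_smul, sub_zero, polarVec_e, polarVec_e, Nm]
  congr 2
  · exact (Matrix.single_eq_single_vecMulVec_single _ _).symm
  · exact (Matrix.single_eq_single_vecMulVec_single _ _).symm

theorem eichler_ef (i j : Fin 4) : eichlerMatrix Q8 (e i) (f j) = 1 + Nm (.inr j) (.inr i) (.inl i) (.inl j) := by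
  rw [eichlerMatrix_def, q_f, zero_smul, sub_zero, polarVec_e, polarVec_f, Nm]
  congr 2
  · exact (Matrix.single_eq_single_vecMulVec_single _ _).symm
  · exact (Matrix.single_eq_single_vecMulVec_single _ _).symm

theorem comm_of {G N : Matrix I8 I8 F3} (h : G * (1 + N) = (1 + N) * G) : G * N = N * G := by
  rw [mul_add, add_mul, mul_one, one_mul] at h
  exact add_left_cancel h

/-- an isometry from an involutory matrix -/
def ofInv (M : Matrix I8 I8 F3) (h : M * M = 1) (hq : ∀ x, Q8 (M *ᵥ x) = Q8 x) : O8 :=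
  ⟨⟨M, M, h, h⟩, (mem_isometryGroup_iff _ _).2 hq⟩

/-- `-1` on the `i`-th hyperbolic plane -/
def dv (i : Fin 4) (a : I8) : F3 := if a = .inl i ∨ a = .inr i then -1 else 1

theorem dv_sq (i : Fin 4) (a : I8) : dv i a * dv i a = 1 := by
  unfold dv; split_ifs <;> decide

/-- `-1` on the `i`-th hyperbolic plane -/
def tor (i : Fin 4) : O8 := ofInv (Matrix.diagonal (dv i))
  (by
    rw [Matrix.diagonal_mul_diagonal]
    have : (fun a => dv i a * dv i a) = fun _ => 1 := funext (dv_sq i)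
    rw [this, Matrix.diagonal_one])
  (fun x => by
    rw [q_apply, q_apply]
    refine Finset.sum_congr rfl fun k _ => ?_
    rw [Matrix.mulVec_diagonal, Matrix.mulVec_diagonal]
    by_cases h : k = i
    · simp [dv, h]
    · simp [dv, h])

theorem mat_tor (i : Fin 4) : mat (tor i) = Matrix.diagonal (dv i) := rfl

/-- the transposition of two hyperbolic planes -/
def sw (a : I8) : I8 := Sum.map (Equiv.swap 0 2) (Equiv.swap 0 2) a

theorem sw_sw (a : I8) : sw (sw a) = a := by
  rcases a with a | a <;> simp [sw]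

/-- the transposition of two hyperbolic planes -/
def swM : Matrix I8 I8 F3 := Matrix.of fun a b => if b = sw a then 1 else 0

theorem swM_mulVec (x : I8 → F3) (a : I8) : (swM *ᵥ x) a = x (sw a) := by
  simp [swM, Matrix.mulVec, dotProduct]

/-- the transposition of two hyperbolic planes -/
def swap : O8 := ofInv swM
  (by
    apply Matrix.mulVec_injective
    funext x
    rw [← Matrix.mulVec_mulVec, Matrix.one_mulVec]
    funext a
    rw [swM_mulVec, swM_mulVec, sw_sw])
  (fun x => by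
    rw [q_apply, q_apply]
    simp only [swM_mulVec]
    exact Equiv.sum_comp (Equiv.swap (0 : Fin 4) 2) fun i => x (.inl i) * x (.inr i))

theorem tor_inv (i : Fin 4) : (tor i)⁻¹ = tor i :=
  inv_eq_of_mul_eq_one_left (mat_injective (by
    rw [mat_mul, mat_tor, Matrix.diagonal_mul_diagonal, mat_one]
    have : (fun a => dv i a * dv i a) = fun _ => 1 := funext (dv_sq i)
    rw [this, Matrix.diagonal_one]))

/-- `-1` on two hyperbolic planes -/
def sg : O8 := tor 0 * tor 2

theorem sg_eq : sg = ⁅tor 0, swap⁆ := by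
  have h : swap * tor 0 * swap⁻¹ = tor 2 := by
    rw [mul_inv_eq_iff_eq_mul]
    apply mat_injective
    rw [mat_mul, mat_mul, mat_tor, mat_tor]
    ext a b
    rw [Matrix.mul_diagonal, Matrix.diagonal_mul]
    show swM a b * dv 0 b = dv 2 a * swM a b
    unfold swM
    rw [Matrix.of_apply]
    split_ifs with hb
    · rw [hb, one_mul, mul_one]
      have key : ∀ a : I8, dv 0 (sw a) = dv 2 a := by decide
      exact key a
    · rw [zero_mul, mul_zero]
  rw [commutatorElement_def, tor_inv, sg, ← h]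
  group

theorem sg_mem : sg ∈ commutator O8 := by
  rw [sg_eq]
  exact Subgroup.commutator_mem_commutator (Subgroup.mem_top _) (Subgroup.mem_top _)

theorem mat_sg : mat sg = Matrix.diagonal fun a => dv 0 a * dv 2 a := by
  rw [sg, mat_mul, mat_tor, mat_tor, Matrix.diagonal_mul_diagonal]

theorem sg_inv : sg⁻¹ = sg :=
  inv_eq_of_mul_eq_one_left (mat_injective (by
    rw [mat_mul, mat_sg, Matrix.diagonal_mul_diagonal, mat_one]
    have : (fun a => dv 0 a * dv 2 a * (dv 0 a * dv 2 a)) = fun _ => 1 := by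
      funext a
      rw [mul_mul_mul_comm, dv_sq, dv_sq, one_mul]
    rw [this, Matrix.diagonal_one]))

/-! ### root groups -/

theorem two_smul_neg (w : I8 → F3) : -w + -w = w := by
  funext a
  show -w a + -w a = w a
  generalize w a = x
  revert x
  decide

theorem eichler_neg (u w : I8 → F3) : eichlerMatrix Q8 (-u) w = eichlerMatrix Q8 u (-w) := by
  apply Matrix.mulVec_injective
  funext x
  rw [eichlerMatrix_mulVec, eichlerMatrix_mulVec, QuadraticMap.polar_neg_left, QuadraticMap.polar_neg_left,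
    QuadraticMap.map_neg]
  ext i
  simp only [Pi.add_apply, Pi.sub_apply, Pi.smul_apply, smul_eq_mul, Pi.neg_apply]
  ring

theorem mem_commutator {u w : I8 → F3} (hu : Q8 u = 0) (huw : polar (⇑Q8) u w = 0) {h : O8}
    (h1 : mat h *ᵥ u = -u) (h2 : mat h *ᵥ w = w) : eichlerIso Q8 u w hu huw ∈ commutator O8 := by
  have huw' : polar (⇑Q8) u (-w) = 0 := by rw [QuadraticMap.polar_neg_right, huw, neg_zero]
  have hu' : Q8 (mat h *ᵥ u) = 0 := by rw [q_mulVec, hu]
  have huw2 : polar (⇑Q8) (mat h *ᵥ u) (mat h *ᵥ w) = 0 := by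
    rw [h1, h2, QuadraticMap.polar_neg_left, huw, neg_zero]
  have key : eichlerIso Q8 u w hu huw = ⁅eichlerIso Q8 u (-w) hu huw', h⁆ := by
    have e0 : (eichlerIso Q8 u (-w) hu huw')⁻¹ = eichlerIso Q8 u w hu huw := by
      rw [eichlerIso_inv]
      apply mat_injective
      rw [mat_eichler, mat_eichler, neg_neg]
    have e1 : h * eichlerIso Q8 u w hu huw * h⁻¹ = eichlerIso Q8 (mat h *ᵥ u) (mat h *ᵥ w) hu' huw2 :=
      conj_eichlerIso Q8 u w hu huw h hu' huw2
    rw [commutatorElement_def, e0, mul_assoc, mul_assoc, ← mul_assoc h, e1]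
    apply mat_injective
    rw [mat_mul, mat_eichler, mat_eichler, mat_eichler, h1, h2, eichler_neg, eichlerMatrix_mul Q8 u _ _ hu huw' huw',
      two_smul_neg]
  rw [key]
  exact Subgroup.commutator_mem_commutator (Subgroup.mem_top _) (Subgroup.mem_top _)

/-- the unipotent radical of the stabiliser of `e i`, for vectors in the submodule given by `Z` -/
def rad (i : Fin 4) (Z : Set I8) (hZ : Sum.inr i ∈ Z) : Subgroup O8 where
  carrier := {g | ∃ w : I8 → F3, (∀ a ∈ Z, w a = 0) ∧ mat g = eichlerMatrix Q8 (e i) w}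
  one_mem' := ⟨0, fun _ _ => rfl, by rw [eichlerMatrix_zero]; rfl⟩
  mul_mem' := by
    rintro g g' ⟨w, hw, hg⟩ ⟨w', hw', hg'⟩
    refine ⟨w + w', fun a ha => by rw [Pi.add_apply, hw a ha, hw' a ha, add_zero], ?_⟩
    rw [mat_mul, hg, hg', eichlerMatrix_mul Q8 _ _ _ (q_e i) (by rw [polar_e, hw _ hZ]) (by rw [polar_e, hw' _ hZ])]
  inv_mem' := by
    rintro g ⟨w, hw, hg⟩
    have h1 : polar (⇑Q8) (e i) w = 0 := by rw [polar_e, hw _ hZ]
    have h2 : g = eichlerIso Q8 (e i) w (q_e i) h1 := mat_injective hg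
    refine ⟨-w, fun a ha => by rw [Pi.neg_apply, hw a ha, neg_zero], ?_⟩
    rw [h2, eichlerIso_inv, mat_eichler]

theorem rad_cube {i : Fin 4} {Z : Set I8} {hZ : Sum.inr i ∈ Z} {g : O8} (hg : g ∈ rad i Z hZ) : g ^ 3 = 1 := by
  obtain ⟨w, hw, hg⟩ := hg
  have h1 : polar (⇑Q8) (e i) w = 0 := by rw [polar_e, hw _ hZ]
  apply mat_injective
  rw [pow_succ, pow_two, mat_mul, mat_mul, hg, eichlerMatrix_mul Q8 _ _ _ (q_e i) h1 h1,
    eichlerMatrix_mul Q8 _ _ _ (q_e i) (by rw [QuadraticMap.polar_add_right, h1, add_zero]) h1]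
  have h2 : w + w + w = 0 := by
    funext a
    show w a + w a + w a = 0
    generalize w a = x
    revert x
    decide
  rw [h2, eichlerMatrix_zero]
  rfl

theorem isPGroup_rad {i : Fin 4} {Z : Set I8} {hZ : Sum.inr i ∈ Z} : IsPGroup 3 (rad i Z hZ) := fun g =>
  ⟨1, Subtype.ext (rad_cube g.2)⟩

theorem rad_le {i : Fin 4} {Z : Set I8} {hZ : Sum.inr i ∈ Z} (hZ' : Sum.inl i ∈ Z) : rad i Z hZ ≤ commutator O8 := by
  rintro g ⟨w, hw, hg⟩
  have h1 : polar (⇑Q8) (e i) w = 0 := by rw [polar_e, hw _ hZ]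
  have h2 : g = eichlerIso Q8 (e i) w (q_e i) h1 := mat_injective hg
  rw [h2]
  refine mem_commutator (q_e i) h1 (h := tor i) ?_ ?_
  · funext a
    rw [mat_tor, Matrix.mulVec_diagonal]
    by_cases ha : a = .inl i
    · subst ha
      simp [dv, e]
    · simp [e, ha]
  · funext a
    rw [mat_tor, Matrix.mulVec_diagonal]
    by_cases ha : a = .inl i
    · rw [ha, hw _ hZ', mul_zero]
    · by_cases ha' : a = .inr i
      · rw [ha', hw _ hZ, mul_zero]
      · rw [dv, if_neg (by tauto), one_mul]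

/-- coordinates of the first plane -/
def Z0 : Set I8 := {a | a = .inl 0 ∨ a = .inr 0}
/-- coordinates of the first two planes -/
def Z1 : Set I8 := {a | a = .inl 0 ∨ a = .inr 0 ∨ a = .inl 1 ∨ a = .inr 1}

/-- first radical -/
def B0 : Subgroup O8 := rad 0 Z0 (Or.inr rfl)
/-- second radical -/
def B1 : Subgroup O8 := rad 1 Z1 (Or.inr (Or.inr (Or.inr rfl)))

theorem B1_norm : B1 ≤ Subgroup.normalizer (B0 : Set O8) := by
  have key : ∀ g ∈ B1, ∀ x ∈ B0, g * x * g⁻¹ ∈ B0 := by
    rintro g ⟨w1, hw1, hg⟩ x ⟨w, hw, hx⟩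
    have p1 : polar (⇑Q8) (e 0) w = 0 := by rw [polar_e, hw _ (Or.inr rfl)]
    have x1 : x = eichlerIso Q8 (e 0) w (q_e 0) p1 := mat_injective hx
    have g0 : mat g *ᵥ (e 0) = e 0 := by
      rw [hg, eichlerMatrix_mulVec, polar_e, polar_comm, polar_e, hw1 _ (Or.inr (Or.inl rfl))]
      simp [e]
    have p2 : Q8 (mat g *ᵥ (e 0)) = 0 := by rw [g0, q_e]
    have p3 : polar (⇑Q8) (mat g *ᵥ (e 0)) (mat g *ᵥ w) = 0 := by
      rw [polar_mulVec_of_isometry Q8 _ (q_mulVec g), p1]
    have h3 : g * x * g⁻¹ = eichlerIso Q8 (mat g *ᵥ (e 0)) (mat g *ᵥ w) p2 p3 := by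
      rw [x1]
      exact conj_eichlerIso Q8 (e 0) w (q_e 0) p1 g p2 p3
    refine ⟨mat g *ᵥ w, ?_, ?_⟩
    · intro a ha
      rw [hg, eichlerMatrix_mulVec]
      have ha1 : w1 a = 0 := by
        rcases ha with rfl | rfl
        · exact hw1 _ (Or.inl rfl)
        · exact hw1 _ (Or.inr (Or.inl rfl))
      have ha2 : e 1 a = 0 := by
        rcases ha with rfl | rfl <;> simp [e]
      simp only [Pi.add_apply, Pi.sub_apply, Pi.smul_apply, smul_eq_mul, ha1, ha2, hw a ha]
      ring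
    · rw [h3, mat_eichler, g0]
  intro g hg
  rw [Subgroup.mem_normalizer_iff]
  intro x
  refine ⟨key g hg x, fun h => ?_⟩
  have := key g⁻¹ (inv_mem hg) _ h
  have e2 : g⁻¹ * (g * x * g⁻¹) * g⁻¹⁻¹ = x := by group
  rwa [e2] at this

theorem isPGroup_sup : IsPGroup 3 ↥(B0 ⊔ B1) := by
  have h := IsPGroup.to_sup_of_normal_left' (H := B0) (K := B1) (p := 3) isPGroup_rad isPGroup_rad B1_norm
  exact h

theorem sup_le_comm : B0 ⊔ B1 ≤ commutator O8 :=
  sup_le (rad_le (Or.inl rfl)) (rad_le (Or.inr (Or.inr (Or.inl rfl))))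

/-! ### the centralizer -/

/-- `1 - E(e0, e1)` -/
def N1 : Matrix I8 I8 F3 := Nm (.inl 0) (.inr 1) (.inl 1) (.inr 0)

theorem N1_sq : N1 * N1 = 0 := by
  unfold N1 Nm
  rw [Matrix.mul_sub, Matrix.sub_mul, Matrix.sub_mul]
  rw [Matrix.single_mul_single_of_ne _ _ _ _ (by decide), Matrix.single_mul_single_of_ne _ _ _ _ (by decide),
    Matrix.single_mul_single_of_ne _ _ _ _ (by decide), Matrix.single_mul_single_of_ne _ _ _ _ (by decide)]
  simp

/-- the long root element -/
def E1 : O8 := eichlerIso Q8 (e 0) (e 1) (q_e 0) (by rw [polar_e]; simp [e])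

theorem mat_E1 : mat E1 = 1 - N1 := by
  show eichlerMatrix Q8 (e 0) (e 1) = _
  rw [eichler_ee, N1, Nm, Nm]
  abel

theorem E1_mem : E1 ∈ B0 := ⟨e 1, by rintro a (rfl | rfl) <;> simp [e], rfl⟩

theorem mat_E1_pow (n : ℕ) : mat (E1 ^ n) = 1 - (n : F3) • N1 := by
  induction n with
  | zero => rw [pow_zero, mat_one, Nat.cast_zero, zero_smul, sub_zero]
  | succ n ih =>
    rw [pow_succ, mat_mul, ih, mat_E1, mul_sub, mul_one, sub_mul, smul_mul_assoc, N1_sq, smul_zero, sub_zero, one_mul,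
      Nat.cast_succ, add_smul, one_smul]
    abel

theorem comm_O {g : O8} (h0 : ∀ a ∈ B0, g * a = a * g) (h1 : ∀ a ∈ B1, g * a = a * g) :
    ∃ l b : F3, l * l = 1 ∧ mat g = l • 1 + b • N1 := by
  obtain ⟨l, hl⟩ : ∃ l, mat g (.inl 0) (.inl 0) = l := ⟨_, rfl⟩
  obtain ⟨b, hb⟩ : ∃ b, mat g (.inl 0) (.inr 1) = b := ⟨_, rfl⟩
  obtain ⟨c, hc⟩ : ∃ c, mat g (.inl 0) (.inr 0) = c := ⟨_, rfl⟩
  have c0 : ∀ w : I8 → F3, (∀ a ∈ Z0, w a = 0) → mat g * eichlerMatrix Q8 (e 0) w = eichlerMatrix Q8 (e 0) w * mat g := by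
    intro w hw
    have p : polar (⇑Q8) (e 0) w = 0 := by rw [polar_e, hw _ (Or.inr rfl)]
    have hm : eichlerIso Q8 (e 0) w (q_e 0) p ∈ B0 := ⟨w, hw, mat_eichler (q_e 0) p⟩
    have h2 := congrArg mat (h0 _ hm)
    rw [mat_mul, mat_mul, mat_eichler] at h2
    exact h2
  have c1 : ∀ w : I8 → F3, (∀ a ∈ Z1, w a = 0) → mat g * eichlerMatrix Q8 (e 1) w = eichlerMatrix Q8 (e 1) w * mat g := by
    intro w hw
    have p : polar (⇑Q8) (e 1) w = 0 := by rw [polar_e, hw _ (Or.inr (Or.inr (Or.inr rfl)))]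
    have hm : eichlerIso Q8 (e 1) w (q_e 1) p ∈ B1 := ⟨w, hw, mat_eichler (q_e 1) p⟩
    have h2 := congrArg mat (h1 _ hm)
    rw [mat_mul, mat_mul, mat_eichler] at h2
    exact h2
  have hG := comm_matrix (G := mat g)
    (fun j hj => comm_of (by
      rw [← eichler_ee]
      exact c0 _ (by rintro a (rfl | rfl) <;> simp [e, Ne.symm hj])))
    (fun j hj => comm_of (by
      rw [← eichler_ef]
      exact c0 _ (by rintro a (rfl | rfl) <;> simp [f, Ne.symm hj])))
    (fun j hj hj1 => comm_of (by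
      rw [← eichler_ee]
      exact c1 _ (by rintro a (rfl | rfl | rfl | rfl) <;> simp [e, Ne.symm hj, Ne.symm hj1])))
    (fun j hj hj1 => comm_of (by
      rw [← eichler_ef]
      exact c1 _ (by rintro a (rfl | rfl | rfl | rfl) <;> simp [f, Ne.symm hj, Ne.symm hj1])))
    hl hb hc
  have hx : ∀ a, (mat g *ᵥ f 0) a = mat g a (.inr 0) := fun a => by simp [f]
  have hy : ∀ a, (mat g *ᵥ e 0) a = mat g a (.inl 0) := fun a => by simp [e]
  have hll : l * l = 1 := by
    have h2 := polar_mulVec_of_isometry Q8 (mat g) (q_mulVec g) (e 0) (f 0)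
    rw [polar_e, polar_plusForm] at h2
    simp only [hx, hy] at h2
    rw [hG] at h2
    simpa [Fin.sum_univ_four, Nm, Matrix.single_apply, f] using h2
  have hcl : c * l = 0 := by
    have h2 := q_mulVec g (f 0)
    rw [q_f, q_apply] at h2
    simp only [hx] at h2
    rw [hG] at h2
    simpa [Fin.sum_univ_four, Nm, Matrix.single_apply] using h2
  have hc0 : c = 0 := by
    have : c * (l * l) = 0 := by rw [← mul_assoc, hcl, zero_mul]
    rwa [hll, mul_one] at this
  refine ⟨l, b, hll, ?_⟩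
  rw [hG, hc0, zero_smul, add_zero]
  rfl

/-! ### the main statement -/

/-- `Ω8+(3)` -/
abbrev Om : Subgroup O8 := commutator O8

/-- the long root element in `Ω` -/
def E' : ↥Om := ⟨E1, sup_le_comm (Subgroup.mem_sup_left E1_mem)⟩

/-- the inverting element in `Ω` -/
def s' : ↥Om := ⟨sg, sg_mem⟩

theorem E1_cube : E1 ^ 3 = 1 := rad_cube E1_mem

theorem E'_cube : E' ^ 3 = 1 := Subtype.ext E1_cube

theorem mat_E1_inv : mat E1⁻¹ = 1 + N1 := by
  have h : E1⁻¹ = E1 ^ 2 := by
    rw [inv_eq_iff_mul_eq_one, ← pow_succ']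
    exact E1_cube
  rw [h, mat_E1_pow, sub_eq_add_neg, ← neg_smul]
  have h2 : -((2 : ℕ) : F3) = 1 := by decide
  rw [h2, one_smul]

theorem sg_conj : sg * E1 * sg⁻¹ = E1⁻¹ := by
  rw [mul_inv_eq_iff_eq_mul]
  apply mat_injective
  rw [mat_mul, mat_mul, mat_E1, mat_E1_inv, mat_sg, mul_sub, add_mul, mul_one, one_mul, sub_eq_add_neg]
  congr 1
  ext a b
  rw [Matrix.neg_apply, Matrix.diagonal_mul, Matrix.mul_diagonal]
  have key : ∀ a b : I8, -(dv 0 a * dv 2 a * N1 a b) = N1 a b * (dv 0 b * dv 2 b) := by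
    unfold N1 Nm
    decide +kernel
  exact key a b

theorem s'_conj : s' * E' * s'⁻¹ = E'⁻¹ := Subtype.ext sg_conj

theorem E'_ne : E' ∉ Subgroup.center ↥Om := by
  intro h
  have h1 : s' * E' * s'⁻¹ = E' := by
    rw [Subgroup.mem_center_iff.1 h s', mul_inv_cancel_right]
  rw [s'_conj] at h1
  have h2 : E1⁻¹ = E1 := congrArg Subtype.val h1
  have h3 := congrArg (fun g => mat g (.inl 0) (.inr 1)) h2
  simp only [mat_E1_inv, mat_E1, N1, Nm] at h3
  revert h3
  decide +kernel

theorem center_sq {z : ↥Om} (hz : z ∈ Subgroup.center ↥Om) : z * z = 1 := by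
  have hc : ∀ a ∈ Om, (z : O8) * a = a * z := fun a ha =>
    congrArg Subtype.val (Subgroup.mem_center_iff.1 hz ⟨a, ha⟩).symm
  obtain ⟨l, b, hl, hm⟩ := comm_O (g := (z : O8)) (fun a ha => hc a (sup_le_comm (Subgroup.mem_sup_left ha)))
    (fun a ha => hc a (sup_le_comm (Subgroup.mem_sup_right ha)))
  have h1 := congrArg (fun g => mat g (.inl 0) (.inr 1)) (hc sg sg_mem)
  simp only [mat_mul, mat_sg, Matrix.diagonal_mul, Matrix.mul_diagonal, hm] at h1
  have h2 : (l • (1 : Matrix I8 I8 F3) + b • N1) (.inl 0) (.inr 1) = b := by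
    simp [N1, Nm]
  rw [h2] at h1
  have h3 : dv 0 (Sum.inr 1 : I8) * dv 2 (Sum.inr 1 : I8) = 1 := by decide
  have h4 : dv 0 (Sum.inl 0 : I8) * dv 2 (Sum.inl 0 : I8) = -1 := by decide
  rw [h3, h4, mul_one] at h1
  have hb : b = 0 := by
    have key : ∀ b : F3, b = -1 * b → b = 0 := by decide
    exact key b h1
  apply Subtype.ext
  apply mat_injective
  show mat ((z : O8) * z) = mat 1
  rw [mat_mul, hm, hb, zero_smul, add_zero, smul_mul_smul_comm, hl, one_mul, one_smul]
  rfl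

theorem mem_center_of_mat {x : ↥Om} {l : F3} (h : mat (x : O8) = l • 1) : x ∈ Subgroup.center ↥Om := by
  rw [Subgroup.mem_center_iff]
  intro g
  apply Subtype.ext
  apply mat_injective
  show mat ((g : O8) * x) = mat ((x : O8) * g)
  rw [mat_mul, mat_mul, h, smul_mul_assoc, mul_smul_comm, one_mul, mul_one]

theorem exists_zpow {x : ↥Om} (h0 : ∀ a ∈ B0, (x : O8) * a = a * x) (h1 : ∀ a ∈ B1, (x : O8) * a = a * x) :
    ∃ m : ℕ, x * E' ^ m ∈ Subgroup.center ↥Om := by
  obtain ⟨l, b, hl, hm⟩ := comm_O h0 h1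
  refine ⟨(b * l).val, mem_center_of_mat (l := l) ?_⟩
  show mat ((x : O8) * E1 ^ (b * l).val) = _
  rw [mat_mul, mat_E1_pow, hm, ZMod.natCast_zmod_val, add_mul, mul_sub, mul_one, smul_mul_smul_comm, one_mul, mul_sub,
    mul_one, smul_mul_smul_comm, N1_sq, smul_zero, sub_zero, ← mul_assoc, mul_comm l b, mul_assoc b, hl, mul_one]
  abel

theorem comm_of_quot {x : ↥Om} {a : O8} (ha : a ∈ Om) (ha3 : a ^ 3 = 1)
    (h : (QuotientGroup.mk x : ↥Om ⧸ Subgroup.center ↥Om) * QuotientGroup.mk ⟨a, ha⟩ =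
      QuotientGroup.mk ⟨a, ha⟩ * QuotientGroup.mk x) : (x : O8) * a = a * x := by
  obtain ⟨a', ha'⟩ : ∃ a' : ↥Om, a' = ⟨a, ha⟩ := ⟨_, rfl⟩
  rw [← ha'] at h
  have ha3' : a' ^ 3 = 1 := by rw [ha']; exact Subtype.ext ha3
  rw [← QuotientGroup.mk_mul, ← QuotientGroup.mk_mul, eq_comm, QuotientGroup.eq] at h
  obtain ⟨z, hz⟩ : ∃ z, z = (a' * x)⁻¹ * (x * a') := ⟨_, rfl⟩
  rw [← hz] at h
  have hzc : ∀ g, Commute z g := fun g => (Subgroup.mem_center_iff.1 h g).symm
  have e1 : x * a' = a' * x * z := by rw [hz]; group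
  have e2 : x * a' * x⁻¹ = a' * z := by
    rw [e1, mul_assoc a' x z, ← (hzc x).eq, ← mul_assoc, mul_inv_cancel_right]
  have e3 : (x * a' * x⁻¹) ^ 3 = 1 := by rw [conj_pow, ha3', mul_one, mul_inv_cancel]
  rw [e2, (hzc a').symm.mul_pow, ha3', one_mul] at e3
  have e4 := center_sq h
  have e5 : z = 1 := by
    rw [pow_succ, pow_two, e4, one_mul] at e3
    exact e3
  rw [e5, mul_one] at e1
  have := congrArg Subtype.val e1
  rw [ha'] at this
  exact this

theorem main' : ∃ (U : Sylow 3 (↥Om ⧸ Subgroup.center ↥Om)) (y s : ↥Om ⧸ Subgroup.center ↥Om), y ∈ U ∧ y ^ 3 = 1 ∧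
    (∀ u ∈ U, y * u = u * y) ∧ (∀ g, (∀ u ∈ U, g * u = u * g) → g ∈ Subgroup.zpowers y) ∧ s * y * s⁻¹ = y⁻¹ := by
  have h3 : Fact (Nat.Prime 3) := ⟨Nat.prime_three⟩
  have hM : IsPGroup 3 ↥((B0 ⊔ B1).subgroupOf Om) := isPGroup_sup.comap_of_injective _ (Subgroup.subtype_injective _)
  obtain ⟨U0, hU0⟩ := hM.exists_le_sylow
  have hs : Function.Surjective (QuotientGroup.mk' (Subgroup.center ↥Om)) := QuotientGroup.mk'_surjective _
  obtain ⟨U, hU⟩ : ∃ U : Sylow 3 (↥Om ⧸ Subgroup.center ↥Om), U = U0.mapSurjective hs := ⟨_, rfl⟩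
  have hmem : ∀ x ∈ U0, (QuotientGroup.mk x : ↥Om ⧸ Subgroup.center ↥Om) ∈ U := fun x hx => by
    rw [hU]
    exact Subgroup.mem_map_of_mem _ hx
  obtain ⟨y, hy⟩ : ∃ y : ↥Om ⧸ Subgroup.center ↥Om, y = QuotientGroup.mk E' := ⟨_, rfl⟩
  have hB : ∀ a (ha : a ∈ B0 ⊔ B1), (QuotientGroup.mk (⟨a, sup_le_comm ha⟩ : ↥Om) : ↥Om ⧸ Subgroup.center ↥Om) ∈ U :=
    fun a ha => hmem _ (hU0 (Subgroup.mem_subgroupOf.2 ha))
  have hyU : y ∈ U := by
    rw [hy]
    exact hB E1 (Subgroup.mem_sup_left E1_mem)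
  have hy3 : y ^ 3 = 1 := by
    rw [hy, ← QuotientGroup.mk_pow, E'_cube]
    rfl
  have hy1 : y ≠ 1 := by
    rw [hy]
    intro h
    exact E'_ne ((QuotientGroup.eq_one_iff _).1 h)
  have hcen : ∀ g, (∀ u ∈ U, g * u = u * g) → g ∈ Subgroup.zpowers y := by
    intro g hg
    obtain ⟨x, rfl⟩ := hs g
    obtain ⟨m, hm⟩ := exists_zpow (x := x)
      (fun a ha => comm_of_quot (sup_le_comm (Subgroup.mem_sup_left ha)) (rad_cube ha) (hg _ (hB a (Subgroup.mem_sup_left ha))))
      (fun a ha => comm_of_quot (sup_le_comm (Subgroup.mem_sup_right ha)) (rad_cube ha) (hg _ (hB a (Subgroup.mem_sup_right ha))))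
    have h5 : (QuotientGroup.mk x : ↥Om ⧸ Subgroup.center ↥Om) * y ^ m = 1 := by
      rw [hy, ← QuotientGroup.mk_pow, ← QuotientGroup.mk_mul, QuotientGroup.eq_one_iff]
      exact hm
    rw [QuotientGroup.mk'_apply, eq_inv_of_mul_eq_one_left h5]
    exact inv_mem (pow_mem (Subgroup.mem_zpowers y) m)
  have hord : orderOf y = 3 := orderOf_eq_prime hy3 hy1
  have hdvd : 3 ∣ Nat.card (↥Om ⧸ Subgroup.center ↥Om) := by
    have := orderOf_dvd_natCard y
    rwa [hord] at this
  obtain ⟨w, hwU, hw, hwc⟩ := Crit.exists_central U hdvd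
  refine ⟨U, y, QuotientGroup.mk s', hyU, hy3, ?_, hcen, ?_⟩
  · obtain ⟨i, hi⟩ := Subgroup.mem_zpowers_iff.1 (hcen w fun u hu => (hwc u hu).symm)
    have hyw : y ∈ Subgroup.zpowers w := by
      have h5 : Subgroup.zpowers w ≤ Subgroup.zpowers y := by
        rw [Subgroup.zpowers_le]
        exact ⟨i, hi⟩
      have h6 : Subgroup.zpowers w = Subgroup.zpowers y :=
        Subgroup.eq_of_le_of_card_ge h5 (by rw [Nat.card_zpowers, Nat.card_zpowers, hw, hord])
      rw [h6]
      exact Subgroup.mem_zpowers y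
    obtain ⟨j, hj⟩ := Subgroup.mem_zpowers_iff.1 hyw
    intro u hu
    rw [← hj]
    exact ((show Commute u w from hwc u hu).zpow_right j).symm.eq
  · rw [hy, ← QuotientGroup.mk_mul, ← QuotientGroup.mk_inv, ← QuotientGroup.mk_mul, s'_conj, QuotientGroup.mk_inv]

/-- **the centralizer of a Sylow 3-subgroup of `PΩ8+(3)`** -/
theorem main : ∃ (U : Sylow 3 (POmega (ZMod 3) (quadFormPlus 4 (ZMod 3))))
    (y s : POmega (ZMod 3) (quadFormPlus 4 (ZMod 3))), y ∈ U ∧ y ^ 3 = 1 ∧
    (∀ u ∈ U, y * u = u * y) ∧ (∀ g, (∀ u ∈ U, g * u = u * g) → g ∈ Subgroup.zpowers y) ∧ s * y * s⁻¹ = y⁻¹ := by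
  rw [← coe_plusForm]
  exact main'

end Cfsg.Agent.H711.EvOmega
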