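import Mathlib

/-!
# Elements centralising a Sylow 3-subgroup of a normal subgroup with quotient `S3` are inverted by odd elements
-/

set_option autoImplicit false

open Subgroup

namespace Cfsg.Agent.H711.EvTwist

theorem perm_inv : ∀ a b : Equiv.Perm (Fin 3), a * a * a ≠ 1 → b * b * b = 1 → a * b * a⁻¹ = b⁻¹ := by decide

theorem cases_of_zpow {G : Type*} [Group G] {y w : G} (h3 : y ^ 3 = 1) (hw : w ∈ zpowers y) :
    w = 1 ∨ w = y ∨ w = y⁻¹ := by
  obtain ⟨i, rfl⟩ := mem_zpowers_iff.1 hw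
  have h1 : y ^ i = y ^ (i % 3) := by
    conv_lhs => rw [← Int.mul_ediv_add_emod i 3, zpow_add, zpow_mul]
    have : y ^ (3 : ℤ) = 1 := by exact_mod_cast h3
    rw [this, one_zpow, one_mul]
  have h2 := Int.emod_nonneg i (by norm_num : (3 : ℤ) ≠ 0)
  have h4 := Int.emod_lt_of_pos i (by norm_num : (0 : ℤ) < 3)
  rw [h1]
  obtain ⟨j, hj⟩ : ∃ j, j = i % 3 := ⟨_, rfl⟩
  rw [← hj] at h2 h4 ⊢
  interval_cases j
  · left; rw [zpow_zero]
  · right; left; rw [zpow_one]
  · right; right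
    rw [eq_inv_iff_mul_eq_one]
    have : y ^ (2 : ℤ) * y = y ^ 3 := by
      rw [pow_succ]; norm_cast
    rw [this, h3]

theorem odd_inv {H N0 : Type*} [Group H] [Finite H] [Group N0] (f : N0 →* H) (hf : Function.Injective f)
    (φ : H →* Equiv.Perm (Fin 3)) (hφ : ∀ x, φ x = 1 ↔ x ∈ f.range) (χ : H →* ℤˣ) (hχ : ∀ n, χ (f n) = 1)
    (hw : ∃ w, χ w = -1) (U : Sylow 3 N0) {y s : N0} (hyU : y ∈ U) (hy3 : y ^ 3 = 1)
    (hyc : ∀ u ∈ U, y * u = u * y) (hcen : ∀ g, (∀ u ∈ U, g * u = u * g) → g ∈ zpowers y)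
    (hs : s * y * s⁻¹ = y⁻¹) {q : H} (hq3 : q ^ 3 = 1) (hq : ∀ u ∈ U, q * f u = f u * q) :
    ∃ g, χ g = -1 ∧ g * q * g⁻¹ = q⁻¹ := by
  have h3 : Fact (Nat.Prime 3) := ⟨Nat.prime_three⟩
  have hfin : Finite N0 := Finite.of_injective f hf
  have hN : f.range.Normal := by
    have : f.range = φ.ker := by
      ext x
      rw [MonoidHom.mem_ker, hφ]
    rw [this]
    infer_instance
  -- Frattini
  let e : N0 ≃* f.range := MonoidHom.ofInjective hf
  let P : Sylow 3 f.range := U.mapSurjective (f := e.toMonoidHom) e.surjective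
  have hP : (P : Subgroup f.range).map f.range.subtype = (U : Subgroup N0).map f := by
    show ((U : Subgroup N0).map e.toMonoidHom).map f.range.subtype = _
    rw [Subgroup.map_map]
    rfl
  have hfr := Sylow.normalizer_sup_eq_top P
  rw [hP] at hfr
  obtain ⟨w, hw⟩ := hw
  obtain ⟨g0, hg0, n, hn, hgn⟩ := Subgroup.mem_sup_of_normal_right.1 (show w ∈ _ by rw [hfr]; exact mem_top w)
  have hχ0 : χ g0 = -1 := by
    have h1 : χ n = 1 := by
      obtain ⟨m, rfl⟩ := hn
      exact hχ m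
    rw [← hw, ← hgn, map_mul, h1, mul_one]
  -- an element of `N0` normalising `U` and inverting `y`
  obtain ⟨t, htU, hty⟩ : ∃ t : N0, t ∈ normalizer ((U : Subgroup N0) : Set N0) ∧ t * y * t⁻¹ = y⁻¹ := by
    obtain ⟨n, hn, hnz⟩ := Sylow.conj_eq_normalizer_conj_of_mem_centralizer U y s⁻¹
      (by rw [Subgroup.mem_centralizer_iff]; exact fun u hu => (hyc u hu).symm)
      (by
        rw [Subgroup.mem_centralizer_iff, inv_inv, hs]
        intro u hu
        exact ((show Commute y u from hyc u hu).inv_left).symm.eq)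
    rw [inv_inv, hs] at hnz
    exact ⟨n⁻¹, inv_mem hn, by rw [inv_inv]; exact hnz.symm⟩
  -- `g1`
  have hnorm : ∀ g, g ∈ normalizer (((U : Subgroup N0).map f : Subgroup H) : Set H) →
      ∀ x, (∀ u ∈ U, x * f u = f u * x) → ∀ u ∈ U, (g * x * g⁻¹) * f u = f u * (g * x * g⁻¹) := by
    intro g hg x hx u hu
    have h1 : g⁻¹ * f u * g ∈ (U : Subgroup N0).map f := by
      rw [mem_normalizer_iff] at hg
      rw [hg]
      have h2 : g * (g⁻¹ * f u * g) * g⁻¹ = f u := by group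
      rw [h2]
      exact mem_map_of_mem f hu
    obtain ⟨v, hv, hv'⟩ := h1
    have h2 : f u = g * f v * g⁻¹ := by rw [hv']; group
    rw [h2]
    calc g * x * g⁻¹ * (g * f v * g⁻¹) = g * (x * f v) * g⁻¹ := by group
      _ = g * (f v * x) * g⁻¹ := by rw [hx v hv]
      _ = g * f v * g⁻¹ * (g * x * g⁻¹) := by group
  have hin : ∀ x, x ∈ f.range → (∀ u ∈ U, x * f u = f u * x) → x = 1 ∨ x = f y ∨ x = (f y)⁻¹ := by
    rintro _ ⟨x, rfl⟩ hx
    have h1 := cases_of_zpow hy3 (hcen x fun u hu => hf (by rw [map_mul, map_mul]; exact hx u hu))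
    rcases h1 with rfl | rfl | rfl
    · left; exact map_one f
    · right; left; rfl
    · right; right; exact map_inv f y
  have hyf : ∀ u ∈ U, f y * f u = f u * f y := fun u hu => by rw [← map_mul, ← map_mul, hyc u hu]
  obtain ⟨g1, hg1, hχ1, hgy⟩ : ∃ g1, g1 ∈ normalizer (((U : Subgroup N0).map f : Subgroup H) : Set H) ∧ χ g1 = -1 ∧
      g1 * f y * g1⁻¹ = (f y)⁻¹ := by
    have h1 := hin (g0 * f y * g0⁻¹) (hN.conj_mem _ ⟨y, rfl⟩ _) (hnorm g0 hg0 _ hyf)
    have h2 : g0 * f y * g0⁻¹ = 1 → f y = 1 := fun h => by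
      rw [mul_inv_eq_one] at h
      exact mul_left_cancel (h.trans (mul_one g0).symm)
    rcases h1 with h1 | h1 | h1
    · refine ⟨g0, hg0, hχ0, ?_⟩
      rw [h1, h2 h1, inv_one]
    · refine ⟨g0 * f t, mul_mem hg0 ?_, by rw [map_mul, hχ, hχ0, mul_one], ?_⟩
      · rw [mem_normalizer_iff] at htU ⊢
        intro x
        constructor
        · rintro ⟨u, hu, rfl⟩
          exact ⟨t * u * t⁻¹, (htU u).1 hu, by rw [map_mul, map_mul, map_inv]⟩
        · rintro ⟨u, hu, hu'⟩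
          have hx : x = f (t⁻¹ * u * t) := by
            rw [map_mul, map_mul, map_inv, hu']; group
          rw [hx]
          refine mem_map_of_mem f ((htU _).2 ?_)
          have : t * (t⁻¹ * u * t) * t⁻¹ = u := by group
          rw [this]
          exact hu
      · have h3 : g0 * f t * f y * (g0 * f t)⁻¹ = g0 * f (t * y * t⁻¹) * g0⁻¹ := by
          rw [map_mul, map_mul, map_inv]; group
        have h4 : g0 * (f y)⁻¹ * g0⁻¹ = (g0 * f y * g0⁻¹)⁻¹ := by group
        rw [h3, hty, map_inv, h4, h1]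
    · exact ⟨g0, hg0, hχ0, h1⟩
  -- `φ g1` inverts `φ q`
  have hφ1 : φ g1 * φ q * (φ g1)⁻¹ = (φ q)⁻¹ := by
    apply perm_inv
    · intro h
      rw [← map_mul, ← map_mul, hφ] at h
      obtain ⟨m, hm⟩ := h
      have h1 := hχ m
      rw [hm, map_mul, map_mul, hχ1] at h1
      exact absurd h1 (by decide)
    · rw [← map_mul, ← map_mul]
      have : q * q * q = 1 := by rw [← hq3, pow_succ, pow_two]
      rw [this, map_one]
  obtain ⟨c, hc⟩ : ∃ c, c = q * (g1 * q * g1⁻¹) := ⟨_, rfl⟩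
  have hc1 : c ∈ f.range := by
    rw [← hφ, hc, map_mul, map_mul, map_mul, map_inv, hφ1, mul_inv_cancel]
  have hcU : ∀ u ∈ U, c * f u = f u * c := by
    intro u hu
    rw [hc]
    exact ((show Commute q (f u) from hq u hu).mul_left (show Commute (g1 * q * g1⁻¹) (f u) from
      hnorm g1 hg1 q hq u hu)).eq
  have hcases := hin c hc1 hcU
  have hqy : Commute q (f y) := hq y hyU
  have hfy3 : (f y) ^ 3 = 1 := by rw [← map_pow, hy3, map_one]
  have hqc : Commute q c := by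
    rcases hcases with h | h | h
    · rw [h]; exact Commute.one_right q
    · rw [h]; exact hqy
    · rw [h]; exact hqy.inv_right
  have hgc : g1 * c * g1⁻¹ = c⁻¹ := by
    rcases hcases with h | h | h
    · rw [h]; group
    · rw [h, hgy]
    · have h4 : g1 * (f y)⁻¹ * g1⁻¹ = (g1 * f y * g1⁻¹)⁻¹ := by group
      rw [h, h4, hgy]
  have hc3 : c ^ 3 = 1 := by
    rcases hcases with h | h | h
    · rw [h, one_pow]
    · rw [h, hfy3]
    · rw [h, inv_pow, hfy3, inv_one]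
  have hα : g1 * q * g1⁻¹ = q⁻¹ * c := by rw [hc]; group
  refine ⟨g1 * g1 * g1, by rw [map_mul, map_mul, hχ1]; decide, ?_⟩
  obtain ⟨A, hA⟩ : ∃ A : MulAut H, A = MulAut.conj g1 := ⟨_, rfl⟩
  have hA' : ∀ x, A x = g1 * x * g1⁻¹ := fun x => by rw [hA, MulAut.conj_apply]
  have hAq : A q = q⁻¹ * c := by rw [hA', hα]
  have hAc : A c = c⁻¹ := by rw [hA', hgc]
  have h1 : g1 * g1 * g1 * q * (g1 * g1 * g1)⁻¹ = A (A (A q)) := by
    rw [hA', hA', hA']; group
  have h2 : A (A q) = q * c⁻¹ * c⁻¹ := by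
    rw [hAq, map_mul, map_inv, hAq, hAc, mul_inv_rev, inv_inv, hqc.inv_right.eq]
  rw [h1, h2, map_mul, map_mul, map_inv, hAq, hAc, inv_inv, mul_assoc, mul_assoc, ← mul_assoc c c c]
  have h5 : c * c * c = 1 := by rw [← hc3, pow_succ, pow_two]
  rw [h5, mul_one]

end Cfsg.Agent.H711.EvTwist
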