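import Cfsg.Agent.H711.FiTFRow
import Cfsg.Agent.H711.EvA
import Cfsg.Agent.H711.EvOmega
import Cfsg.Agent.H711.EvTwist
import Cfsg.Agent.S2081

/-!
# The row of S3855 for `Fi24'`, `p = 3`
-/

set_option autoImplicit false

open Subgroup

namespace Cfsg.Agent.H711.EvFiTF

open Cfsg Cfsg.Agent.H711.Crit Cfsg.Agent.H457.Odd Cfsg.Agent.H467.OddNorm
open Cfsg.Agent.Fischer480.Defs Cfsg.Agent.R08 Cfsg.Agent.R08.FiTwentyFour
open Cfsg.Agent.Fischer.Fi24Class (gen gen_sq)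
open Cfsg.Agent.H830.Con24 Cfsg.Agent.H830.Type24
open Cfsg.Agent.H711.FiThreeRow

theorem evIn_fi24 : EvIn 3 Spor.Fi24' := by
  have : Fact (Nat.Prime 3) := ⟨Nat.prime_three⟩
  have := finite_Fi24
  obtain ⟨d, hd, c, hc, hdc⟩ : ∃ d ∈ L, ∃ c ∈ L, ¬ Commute d c := by
    obtain ⟨c, hc, h⟩ := exists_pair
    exact ⟨_, gen_mem_L .l, c, hc, h⟩
  have htri := tri_com fgroup isT8 hd hc hdc
  have hcard := card_two fgroup isT8 hd hc hdc
  have hcl := closure_com hd hc hdc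
  rw [← hcl] at hcard
  obtain ⟨H, hH⟩ : ∃ H, H = closure (Com L d c) := ⟨_, rfl⟩
  rw [← hH] at htri hcard hcl
  obtain ⟨N, hN, ⟨e⟩, ⟨q⟩⟩ := htri
  have h2 := N.card_eq_card_quotient_mul_card_subgroup
  rw [Nat.card_congr q.toEquiv, Nat.card_congr e.toEquiv, H830.TriMain.card_pomega, Nat.card_perm, Nat.card_fin,
    show Nat.factorial 3 = 6 from rfl] at h2
  -- the center is trivial
  have hcen : center ↥H = ⊥ := by
    have h3 := (center ↥H).card_eq_card_quotient_mul_card_subgroup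
    rw [h2, hcard] at h3
    rw [← Subgroup.card_eq_one]
    have h4 : Nat.card ↥(center ↥H) * (6 * 4952179814400) = 1 * (6 * 4952179814400) := by
      rw [one_mul, mul_comm]; exact h3.symm
    exact Nat.eq_of_mul_eq_mul_right (by norm_num) h4
  let π : ↥H →* ↥H ⧸ center ↥H := QuotientGroup.mk' (center ↥H)
  have hπ : Function.Injective π := by
    rw [← MonoidHom.ker_eq_bot_iff, QuotientGroup.ker_mk', hcen]
  let E : ↥H ≃* ↥H ⧸ center ↥H := MulEquiv.ofBijective π ⟨hπ, QuotientGroup.mk'_surjective _⟩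
  let f0 : POmega (ZMod 3) (quadFormPlus 4 (ZMod 3)) →* ↥H :=
    E.symm.toMonoidHom.comp (N.subtype.comp e.symm.toMonoidHom)
  have hf0 : Function.Injective f0 := E.symm.injective.comp (N.subtype_injective.comp e.symm.injective)
  let φ : ↥H →* Equiv.Perm (Fin 3) := q.toMonoidHom.comp ((QuotientGroup.mk' N).comp π)
  have hker : ∀ x : ↥H, φ x = 1 → x ∈ f0.range := by
    intro x hx
    have h3 : (QuotientGroup.mk' N) (π x) = 1 := q.injective (by rw [map_one]; exact hx)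
    have h4 : π x ∈ N := (QuotientGroup.eq_one_iff _).1 h3
    refine ⟨e ⟨π x, h4⟩, ?_⟩
    show E.symm (N.subtype (e.symm (e ⟨π x, h4⟩))) = x
    rw [MulEquiv.symm_apply_apply]
    exact E.symm_apply_apply x
  have hker' : ∀ x : ↥H, φ x = 1 ↔ x ∈ f0.range := by
    intro x
    refine ⟨hker x, ?_⟩
    rintro ⟨y, rfl⟩
    show q ((QuotientGroup.mk' N) (π (f0 y))) = 1
    have h3 : π (f0 y) = N.subtype (e.symm y) := E.apply_symm_apply _
    have h4 : (QuotientGroup.mk' N) (N.subtype (e.symm y)) = 1 := (QuotientGroup.eq_one_iff _).2 (e.symm y).2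
    rw [h3, h4, map_one]
  -- the sign
  have hs := H830.TriMain.simple_pomega
  let χ : ↥H →* ℤˣ := Cfsg.Agent.Fischer.Fi24Final.sgn.comp H.subtype
  have hsg : ∀ y, χ (f0 y) = 1 := by
    let ρ : POmega (ZMod 3) (quadFormPlus 4 (ZMod 3)) →* ℤˣ := χ.comp f0
    rcases hs.eq_bot_or_eq_top_of_normal ρ.ker inferInstance with h | h
    · exfalso
      have h3 : Function.Injective ρ := (MonoidHom.ker_eq_bot_iff ρ).1 h
      have h4 := Nat.card_le_card_of_injective ρ h3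
      rw [H830.TriMain.card_pomega] at h4
      have h5 : Nat.card ℤˣ = 2 := by rw [Nat.card_eq_fintype_card]; rfl
      rw [h5] at h4
      norm_num at h4
    · intro y
      have h3 : y ∈ ρ.ker := by rw [h]; exact mem_top y
      exact h3
  have hodd : ∃ w, χ w = -1 := by
    obtain ⟨w, hw⟩ : (Com L d c).Nonempty := by
      rw [Set.nonempty_iff_ne_empty]
      intro h4
      have h5 : Nat.card ↥H = 1 := by
        rw [hH, h4, Subgroup.closure_empty]
        exact Subgroup.card_bot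
      rw [hcard] at h5
      norm_num at h5
    exact ⟨⟨w, by rw [hH]; exact subset_closure hw⟩, sgn_L hw.1⟩
  obtain ⟨U, y, s, hyU, hy3, hyc, hycen, hsy⟩ := EvOmega.main
  let f : POmega (ZMod 3) (quadFormPlus 4 (ZMod 3)) →* Spor.Fi24' :=
    (H.subtype.comp f0).codRestrict (commutator Spor.Fi24) fun y => mem_commutator_iff.2 (hsg y)
  -- the element of order three
  have htm : d * c ∈ commutator Spor.Fi24 := by
    rw [mem_commutator_iff, map_mul, sgn_L hd, sgn_L hc]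
    rfl
  let t : Spor.Fi24' := ⟨d * c, htm⟩
  have ht3 : (d * c) ^ 3 = 1 := Cfsg.Agent.H840.NormX.cube (Cfsg.Agent.H840.NormX.fd fgroup) hd hc hdc
  have hHc : ∀ x : ↥H, (x : Spor.Fi24) * d = d * x ∧ (x : Spor.Fi24) * (d * c) = d * c * x := by
    intro x
    have h3 : (x : Spor.Fi24) ∈ centralizer ({c} : Set Spor.Fi24) ⊓ centralizer ({d} : Set Spor.Fi24) := by
      rw [← hcl]; exact x.2
    have h4 := mem_centralizer_singleton_iff.1 h3.1
    have h5 := mem_centralizer_singleton_iff.1 h3.2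
    exact ⟨h5, by rw [← mul_assoc, h5, mul_assoc, h4, mul_assoc]⟩
  have hft : ∀ k, f k * t = t * f k := fun k => Subtype.ext (hHc (f0 k)).2
  have hpt : IsPGroup 3 (zpowers t) := by
    rintro ⟨x, hx⟩
    obtain ⟨i, rfl⟩ := mem_zpowers_iff.1 hx
    refine ⟨1, Subtype.ext ?_⟩
    show (t ^ i) ^ (3 ^ 1) = 1
    have h3 : t ^ 3 = 1 := Subtype.ext ht3
    rw [pow_one, ← zpow_natCast, ← zpow_mul, mul_comm, zpow_mul, zpow_natCast, h3, one_zpow]
  have hR : IsPGroup 3 ↥((U : Subgroup _).map f) := U.isPGroup'.map _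
  have hNorm : (U : Subgroup _).map f ≤ normalizer (zpowers t : Set Spor.Fi24') := by
    rintro _ ⟨r, -, rfl⟩
    refine mem_normalizer_of_forall fun x hx => ?_
    obtain ⟨i, rfl⟩ := hx
    have h1 : Commute (f r) (t ^ i) := (show Commute (f r) t from hft r).zpow_right i
    show f r * t ^ i * (f r)⁻¹ ∈ _
    rw [h1.eq, mul_inv_cancel_right]
    exact ⟨i, rfl⟩
  have hsup : IsPGroup 3 ↥((U : Subgroup _).map f ⊔ zpowers t) := IsPGroup.to_sup_of_normal_right' hR hpt hNorm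
  obtain ⟨P, hP⟩ := hsup.exists_le_sylow
  -- a central element
  have hdvd : 3 ∣ Nat.card Spor.Fi24' := by
    have hc : Nat.card Spor.Fi24' = _ := NotCT.Orders.fi24 ⟨MulEquiv.refl _⟩
    rw [hc]
    norm_num
  obtain ⟨z, hzP, hz, hzc⟩ := exists_central P hdvd
  have hz3 : z ^ 3 = 1 := by rw [← hz, pow_orderOf_eq_one]
  have hz1 : z ≠ 1 := by
    intro h0
    rw [h0, orderOf_one] at hz
    norm_num at hz
  refine evIn_of_real (by norm_num) P hzP hz1 hzc ?_
  have hzt : Commute (z : Spor.Fi24) (d * c) := congrArg Subtype.val (hzc t (hP (mem_sup_right (mem_zpowers t)))).symm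
  obtain ⟨x, hx, y', hy', hxy⟩ := Cfsg.Agent.H840.NormX.cent_mul fgroup hd hc hdc hzt
  have hyH : y' ∈ H := by
    rw [hcl]
    exact ⟨mem_centralizer_singleton_iff.2 (mem_centralizer_iff.1 hy' c (by simp)).symm,
      mem_centralizer_singleton_iff.2 (mem_centralizer_iff.1 hy' d (by simp)).symm⟩
  have hxH : ∀ h : ↥H, Commute x (h : Spor.Fi24) := by
    intro h
    obtain ⟨i, rfl⟩ := mem_zpowers_iff.1 hx
    exact ((show Commute (h : Spor.Fi24) (d * c) from (hHc h).2).symm).zpow_left i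
  have hxyc : Commute x y' := hxH ⟨y', hyH⟩
  have hx3 : x ^ 3 = 1 := by
    obtain ⟨i, rfl⟩ := mem_zpowers_iff.1 hx
    rw [← zpow_natCast, ← zpow_mul, mul_comm, zpow_mul, zpow_natCast, ht3, one_zpow]
  let qH : ↥H := ⟨y', hyH⟩
  have hq3 : qH ^ 3 = 1 := by
    apply Subtype.ext
    have h3 : (z : Spor.Fi24) ^ 3 = 1 := congrArg Subtype.val hz3
    rw [hxy, hxyc.mul_pow, hx3, one_mul] at h3
    exact h3
  have hqU : ∀ u ∈ U, qH * f0 u = f0 u * qH := by
    intro u hu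
    have h3 := congrArg Subtype.val (hzc (f u) (hP (mem_sup_left (mem_map_of_mem f hu))))
    have h4 : ((f0 u : ↥H) : Spor.Fi24) * z = z * f0 u := h3
    apply Subtype.ext
    show y' * (f0 u : Spor.Fi24) = f0 u * y'
    rw [hxy] at h4
    have h5 := hxH (f0 u)
    have h6 : x * (f0 u * y') = x * (y' * f0 u) := by
      rw [← mul_assoc, h5.eq, mul_assoc, h4, mul_assoc]
    exact (mul_left_cancel h6).symm
  obtain ⟨g, hg, hgq⟩ := EvTwist.odd_inv f0 hf0 φ hker' χ hsg hodd U hyU hy3 hyc hycen hsy hq3 hqU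
  have hg' : (g : Spor.Fi24) * y' * (g : Spor.Fi24)⁻¹ = y'⁻¹ := congrArg Subtype.val hgq
  -- the inverting element
  have hdm : d * g ∈ commutator Spor.Fi24 := by
    have h3 : Cfsg.Agent.Fischer.Fi24Final.sgn (g : Spor.Fi24) = -1 := hg
    rw [mem_commutator_iff, map_mul, sgn_L hd, h3]
    rfl
  have hd2 : d * d = 1 := (Cfsg.Agent.H840.NormX.fd fgroup).sq d hd
  have hc2 : c * c = 1 := (Cfsg.Agent.H840.NormX.fd fgroup).sq c hc
  have hdi : d⁻¹ = d := inv_eq_of_mul_eq_one_left hd2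
  have hci : c⁻¹ = c := inv_eq_of_mul_eq_one_left hc2
  have hdt : d * (d * c) * d⁻¹ = (d * c)⁻¹ := by
    rw [mul_inv_rev, hdi, hci, ← mul_assoc, hd2, one_mul]
  have hdx : d * x * d⁻¹ = x⁻¹ := by
    obtain ⟨i, rfl⟩ := mem_zpowers_iff.1 hx
    rw [← conj_zpow, hdt, inv_zpow]
  refine isConj_iff.2 ⟨⟨d * g, hdm⟩, Subtype.ext ?_⟩
  show d * g * z * (d * g)⁻¹ = (z : Spor.Fi24)⁻¹
  have h7 : d * g * z * (d * g)⁻¹ = (d * ((g : Spor.Fi24) * x * (g : Spor.Fi24)⁻¹) * d⁻¹) *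
      (d * ((g : Spor.Fi24) * y' * (g : Spor.Fi24)⁻¹) * d⁻¹) := by
    rw [hxy]; group
  have h8 : (g : Spor.Fi24) * x * (g : Spor.Fi24)⁻¹ = x := by
    rw [← (hxH g).eq, mul_inv_cancel_right]
  have h9 : d * y'⁻¹ * d⁻¹ = y'⁻¹ := by
    have h10 : Commute (y' : Spor.Fi24) d := (hHc ⟨y', hyH⟩).1
    rw [← h10.inv_left.eq, mul_inv_cancel_right]
  rw [h7, h8, hg', hdx, h9, hxy, ← mul_inv_rev, hxyc.eq]

universe u

theorem ev_fi24 {K : Type u} [Group K] [IsSimpleGroup K] (h : Spor.IsoFi24' K) : Ev 3 K := by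
  have hc : Nat.card Spor.Fi24' = _ := NotCT.Orders.fi24 ⟨MulEquiv.refl _⟩
  have : Finite Spor.Fi24' := Nat.finite_of_card_ne_zero (by rw [hc]; norm_num)
  obtain ⟨e⟩ := h
  exact EvA.ev_of e (RowsA.not_prime (by rw [hc]; norm_num)) S2081.result (by norm_num) evIn_fi24

end Cfsg.Agent.H711.EvFiTF
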