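import Cfsg.Agent.H711.JThreeRow
import Cfsg.Agent.H457.Odd.Crit

/-!
# Involutions normalising a Sylow 3-subgroup: `J3`
-/

set_option autoImplicit false

open Subgroup Matrix

namespace Cfsg.Agent.H711.EvJThree

open Cfsg Cfsg.Spor Cfsg.Agent.H711.Crit Cfsg.Agent.J3.Core Cfsg.Agent.J3.Elts Cfsg.Agent.J3.Mono Cfsg.Agent.J3.Nineteen
open Cfsg.Agent.H711.JThreeRow Cfsg.Agent.H457.Odd Cfsg.Agent.H467.OddNorm

section
variable {F : Type} [Field F] {ω : F}

/-- **`J3`** -/
theorem evIn_j3 [Fintype F] (hF : Fintype.card F = 4) (hω : ω ^ 2 + ω + 1 = 0) : EvIn 3 (J3 F ω) := by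
  have : Fact (Nat.Prime 3) := ⟨Nat.prime_three⟩
  have H := good_of_card hF hω
  obtain ⟨hZ, hT, hJ, -⟩ := S1625.result F hF ω hω
  have hfT : Finite (threeJ3 F ω) := Nat.finite_of_card_ne_zero (by rw [hT]; norm_num)
  have hfJ : Finite (J3 F ω) := Nat.finite_of_card_ne_zero (by rw [hJ]; norm_num)
  obtain ⟨G⟩ := exists_gens hF H
  have hPh := card_Ph hF H
  -- the element
  let z : J3 F ω := QuotientGroup.mk (G.a jj)
  have h1 : G.a jj * G.a jn = 1 := mat_injective (by
    rw [map_mul, G.ha, G.ha, relAA H, jj_add, j3A_zero, map_one])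
  have h2 : G.a jj * G.b jn = G.b jn * G.a jn := mat_injective (by
    rw [map_mul, map_mul, G.ha, G.hb _ jn_ne, relAB H _ _ jn_ne, conj_jn, G.ha])
  have hreal : IsConj z z⁻¹ := by
    refine isConj_iff.2 ⟨(QuotientGroup.mk (G.b jn) : J3 F ω)⁻¹, ?_⟩
    have h3 : (G.b jn)⁻¹ * G.a jj * (G.b jn)⁻¹⁻¹ = (G.a jj)⁻¹ := by
      rw [inv_inv, mul_assoc, h2, inv_mul_cancel_left]
      exact eq_inv_of_mul_eq_one_right h1
    exact congrArg (QuotientGroup.mk' (center (threeJ3 F ω))) h3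
  have hz3 : z ^ 3 = 1 := by
    have h4 : G.a jj ^ 3 = 1 := mat_injective (by
      rw [map_pow, G.ha, JThreeRow.j3A_eq, mat_pow_diag, map_one, ← JThreeRow.mono_one ω]
      ext y x
      unfold mono
      simp only [Matrix.of_apply, add_zero]
      split_ifs with h
      · rw [pow_mul, H.cube, one_pow, pow_zero]
      · rfl)
    exact congrArg (QuotientGroup.mk' (center (threeJ3 F ω))) h4
  have hz1 : z ≠ 1 := by
    intro h4
    have h5 : G.a jj ∈ center (threeJ3 F ω) := (QuotientGroup.eq_one_iff _).1 h4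
    have h6 := mem_center_iff.1 h5 (G.d jj)
    have h7 := congrArg (mat ω) h6
    rw [map_mul, map_mul, G.ha, G.hd, JThreeRow.j3A_eq, JThreeRow.j3D_eq, mono_mul, mono_mul] at h7
    have h8 := congrFun (congrFun h7 jj) 0
    unfold mono at h8
    rw [Matrix.of_apply, Matrix.of_apply, if_pos jj_e1, if_pos jj_e2] at h8
    exact jj_val ((omega_pow_cast H).1 h8)
  have hcen : ∀ t ∈ Ph H, (QuotientGroup.mk t : J3 F ω) ∈ centralizer ({z} : Set (J3 F ω)) := by
    rintro t ⟨w, f, ht⟩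
    obtain ⟨s, hs⟩ := exists_scalar H G
    have hsc := center_eq hF H hs
    have h5 : G.a jj * t = s ^ (w.1.val) * (t * G.a jj) := mat_injective (by
      rw [map_mul, map_mul, map_mul, map_pow, ht, G.ha, JThreeRow.j3A_eq, hs, JThreeRow.scalar_eq, mat_pow_diag, mono_mul, mono_mul,
        mono_mul, add_zero, zero_add, add_zero]
      ext y x
      unfold mono
      rw [Matrix.of_apply, Matrix.of_apply]
      split_ifs with h
      · rw [omega_pow_cast H]
        push_cast
        simp only [ZMod.natCast_zmod_val, add_zero, Prod.fst_add, Prod.snd_add]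
        show (1 : ZMod 3) * (x.1 + w.1) + 0 * (x.2 + w.2) + _ = _ + (_ + ((1 : ZMod 3) * x.1 + 0 * x.2))
        ring
      · rfl)
    rw [mem_centralizer_singleton_iff]
    have h6 : (QuotientGroup.mk (G.a jj * t) : J3 F ω) = QuotientGroup.mk (t * G.a jj) := by
      rw [h5, QuotientGroup.eq, hsc]
      have h7 : (s ^ w.1.val * (t * G.a jj))⁻¹ * (t * G.a jj) = (t * G.a jj)⁻¹ * (s ^ w.1.val)⁻¹ * (t * G.a jj) := by group
      have h8 : s ^ w.1.val ∈ center (threeJ3 F ω) := by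
        rw [hsc]; exact pow_mem (mem_zpowers s) _
      rw [h7, mem_center_iff.1 (inv_mem h8) (t * G.a jj)⁻¹, inv_mul_cancel_right, ← hsc]
      exact inv_mem h8
    exact h6.symm
  let ψ : Ph H →* J3 F ω := (QuotientGroup.mk' (center (threeJ3 F ω))).comp (Ph H).subtype
  have hr : ψ.range ≤ centralizer ({z} : Set (J3 F ω)) := by
    rintro _ ⟨⟨t, ht⟩, rfl⟩
    exact hcen t ht
  have hk : Nat.card ψ.ker ∣ 3 := by
    have hk' : Nat.card ψ.ker ∣ Nat.card (center (threeJ3 F ω)) := ?_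
    · rwa [hZ] at hk'
    have hle : ψ.ker.map (Ph H).subtype ≤ center (threeJ3 F ω) := by
      rintro _ ⟨t, ht, rfl⟩
      exact (QuotientGroup.eq_one_iff _).1 ht
    rw [Nat.card_congr (ψ.ker.equivMapOfInjective _ (subtype_injective _)).toEquiv]
    exact card_dvd_of_le hle
  have hc : 3 ^ 5 ∣ Nat.card ↥(centralizer ({z} : Set (J3 F ω))) := by
    refine dvd_trans ?_ (card_dvd_of_le hr)
    have h5 := ψ.ker.card_eq_card_quotient_mul_card_subgroup
    rw [Nat.card_congr (QuotientGroup.quotientKerEquivRange ψ).toEquiv] at h5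
    rw [h5] at hPh
    have h6 : 3 ^ 5 * 3 ∣ Nat.card ψ.range * 3 := (by norm_num : 3 ^ 5 * 3 = 3 ^ 6) ▸ hPh.trans (Nat.mul_dvd_mul_left _ hk)
    exact Nat.dvd_of_mul_dvd_mul_right (by norm_num) h6
  exact evIn_of_real_card (n := 5) (m := 206720) (by norm_num) (orderOf_eq_prime hz3 hz1) hreal
    (by rw [hJ]; norm_num) (by norm_num) hc

end

end Cfsg.Agent.H711.EvJThree
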