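import Cfsg.Agent.H711.MonReal
import Cfsg.Agent.H457.Odd.Crit

/-!
# Involutions normalising a Sylow 3-subgroup: the Monster
-/

set_option autoImplicit false
set_option maxRecDepth 100000

namespace Cfsg.Agent.H711.EvMon

open Cfsg Cfsg.Agent.LThreeMB Cfsg.Agent.H711.Crit
open Cfsg.Agent.MonsterU.Ch
open Cfsg.Agent.MonsterU.Lam2 (L2 IsType)
open Cfsg.Agent.MonsterX Cfsg.Agent.MonsterP Cfsg.Agent.MonsterN Cfsg.Agent.MonsterX.InstData Cfsg.Agent.MonsterX.MainPack
open Cfsg.Spor (Co1)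
open Subgroup (centralizer zpowers mem_centralizer_singleton_iff)
open Cfsg.Agent.H711.MonReal Cfsg.Agent.H457.Odd Cfsg.Agent.H467.OddNorm

theorem evIn_model : EvIn 3 ↥InstData.M.G := by
  have := Row.finite_model
  have := Row.simple_model
  have : Fact (Nat.Prime 3) := ⟨Nat.prime_three⟩
  have h := KChart.chart KDone.lft Row.cent
  have I := CoOneFin.coOne
  obtain ⟨x, hx, hF⟩ := exists_fi24 h I
  have hx3 : x ^ 3 = 1 := by rw [← hx, pow_orderOf_eq_one]
  refine evIn_of_comm_real (by norm_num) hx fun w hw hwx => ?_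
  have hw3 : w ^ 3 = 1 := by rw [← hw, pow_orderOf_eq_one]
  obtain ⟨t, htt, ht1, -, htw⟩ := even_of_XX hx3 hw3 hwx fun g hg => even_of_iso hF hg
  obtain ⟨g, hg⟩ := LThreeM.FiRow.exists_z_of_comm hw3 htt ht1 htw.symm
  exact real_of_comm h I hw hg

theorem evIn_monster : EvIn 3 Spor.Monster := by
  have := Row.finite_model
  have : Fact (Nat.Prime 3) := ⟨Nat.prime_three⟩
  obtain ⟨f⟩ := Cfsg.Agent.MonsterP.Equiv.equiv
  exact EvIn.congr f.symm evIn_model

end Cfsg.Agent.H711.EvMon
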