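import Cfsg.Agent.H711.EvA
import Cfsg.Agent.H711.EvJThree
import Cfsg.Agent.H711.EvMon
import Cfsg.Agent.H711.EvFi
import Cfsg.Agent.S2067

/-!
# The rows of S3855 for `p = 3`: `M`, `Co1`, `Co2`, `Co3`, `McL`, `Ly`, `Suz`, `Fi22`, `Fi23`, `B`, `J3`
-/

set_option autoImplicit false

namespace Cfsg.Agent.H711.EvRows

open Cfsg Cfsg.Agent.H711.Crit Cfsg.Agent.H457.Odd Cfsg.Agent.H467.OddNorm Cfsg.Agent.H711.RowsA Cfsg.Agent.H711.EvA

universe u

theorem ev_m {K : Type u} [Group K] [IsSimpleGroup K] (h : Spor.IsoM K) : Ev 3 K := by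
  have hc : Nat.card Spor.Monster = _ := NotCT.Orders.m ⟨MulEquiv.refl _⟩
  have : Finite Spor.Monster := Nat.finite_of_card_ne_zero (by rw [hc]; norm_num)
  obtain ⟨e⟩ := h
  exact ev_of e (not_prime (by rw [hc]; norm_num)) S2085.result (by norm_num) EvMon.evIn_monster

theorem ev_suz {K : Type u} [Group K] [IsSimpleGroup K] (h : Spor.IsoSuz K) : Ev 3 K := by
  have hc : Nat.card Spor.Suz = _ := NotCT.Orders.suz ⟨MulEquiv.refl _⟩
  have : Finite Spor.Suz := Nat.finite_of_card_ne_zero (by rw [hc]; norm_num)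
  obtain ⟨e⟩ := h
  exact ev_of e (not_prime (by rw [hc]; norm_num)) S2074.result (by norm_num) evIn_suz

theorem ev_fi22 {K : Type u} [Group K] [IsSimpleGroup K] (h : Spor.IsoFi22 K) : Ev 3 K := by
  have hc : Nat.card Spor.Fi22 = _ := NotCT.Orders.fi22 ⟨MulEquiv.refl _⟩
  have : Finite Spor.Fi22 := Nat.finite_of_card_ne_zero (by rw [hc]; norm_num)
  obtain ⟨e⟩ := h
  exact ev_of e (not_prime (by rw [hc]; norm_num)) S2079.result (by norm_num) evIn_fi22

theorem ev_co1 {K : Type u} [Group K] [IsSimpleGroup K] (h : Spor.IsoCo1 K) : Ev 3 K := by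
  have : Fact (Nat.Prime 3) := ⟨Nat.prime_three⟩
  have hc : Nat.card Spor.Co1 = _ := NotCT.Orders.co1 ⟨MulEquiv.refl _⟩
  have : Finite Spor.Co1 := Nat.finite_of_card_ne_zero (by rw [hc]; norm_num)
  obtain ⟨e⟩ := h
  exact ev_of e (not_prime (by rw [hc]; norm_num)) S2069.result (by norm_num)
    (evIn_of_all_real (by norm_num) (by rw [hc]; norm_num) fun z hz =>
      MonReal.co1_real LThreeMB.CoOneFin.coOne hz)

theorem ev_mcl {K : Type u} [Group K] [IsSimpleGroup K] (h : Spor.IsoMcL K) : Ev 3 K := by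
  have hc : Nat.card ↥Spor.McL = _ := NotCT.Orders.mcl ⟨MulEquiv.refl _⟩
  have : Finite ↥Spor.McL := Nat.finite_of_card_ne_zero (by rw [hc]; norm_num)
  obtain ⟨e⟩ := h
  exact ev_of e (not_prime (by rw [hc]; norm_num)) S2073.result (by norm_num) evIn_mcl

theorem ev_ly {K : Type u} [Group K] [IsSimpleGroup K] (h : Spor.IsoLy K) : Ev 3 K := by
  have hc : Nat.card Spor.Ly = _ := NotCT.Orders.ly ⟨MulEquiv.refl _⟩
  have : Finite Spor.Ly := Nat.finite_of_card_ne_zero (by rw [hc]; norm_num)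
  obtain ⟨e⟩ := h
  exact ev_of e (not_prime (by rw [hc]; norm_num)) S2076.result (by norm_num) evIn_ly

theorem ev_co2 {K : Type u} [Group K] [IsSimpleGroup K] (h : Spor.IsoCo2 K) : Ev 3 K := by
  have hc : Nat.card ↥Spor.Co2 = _ := NotCT.Orders.co2 ⟨MulEquiv.refl _⟩
  have : Finite ↥Spor.Co2 := Nat.finite_of_card_ne_zero (by rw [hc]; norm_num)
  obtain ⟨e⟩ := h
  exact ev_of e (not_prime (by rw [hc]; norm_num)) S2070.result (by norm_num) evIn_co2

theorem ev_co3 {K : Type u} [Group K] [IsSimpleGroup K] (h : Spor.IsoCo3 K) : Ev 3 K := by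
  have hc : Nat.card ↥Spor.Co3 = _ := NotCT.Orders.co3 ⟨MulEquiv.refl _⟩
  have : Finite ↥Spor.Co3 := Nat.finite_of_card_ne_zero (by rw [hc]; norm_num)
  obtain ⟨e⟩ := h
  exact ev_of e (not_prime (by rw [hc]; norm_num)) S2071.result (by norm_num) evIn_co3

theorem ev_fi23 {K : Type u} [Group K] [IsSimpleGroup K] (h : Spor.IsoFi23 K) : Ev 3 K := by
  have hc : Nat.card Spor.Fi23 = _ := NotCT.Orders.fi23 ⟨MulEquiv.refl _⟩
  have : Finite Spor.Fi23 := Nat.finite_of_card_ne_zero (by rw [hc]; norm_num)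
  obtain ⟨e⟩ := h
  exact ev_of e (not_prime (by rw [hc]; norm_num)) S2080.result (by norm_num) EvFi.evIn_fi23

theorem ev_b {K : Type u} [Group K] [IsSimpleGroup K] (h : Spor.IsoB K) : Ev 3 K := by
  have hc : Nat.card Spor.BabyMonster = _ := NotCT.Orders.b ⟨MulEquiv.refl _⟩
  have : Finite Spor.BabyMonster := Nat.finite_of_card_ne_zero (by rw [hc]; norm_num)
  obtain ⟨e⟩ := h
  exact ev_of e (not_prime (by rw [hc]; norm_num)) S2084.result (by norm_num) EvFi.evIn_b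

theorem ev_j3 {K : Type u} [Group K] [IsSimpleGroup K] (h : Spor.IsoJ3 K) : Ev 3 K := by
  obtain ⟨F, _, _, ω, hF, hω, ⟨e⟩⟩ := h
  have hc : Nat.card (Spor.J3 F ω) = _ := NotCT.Orders.j3 ⟨F, _, _, ω, hF, hω, ⟨MulEquiv.refl _⟩⟩
  have : Finite (Spor.J3 F ω) := Nat.finite_of_card_ne_zero (by rw [hc]; norm_num)
  exact ev_of e (not_prime (by rw [hc]; norm_num)) (S2067.result hF ω hω) (by norm_num)
    (EvJThree.evIn_j3 hF hω)

end Cfsg.Agent.H711.EvRows
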