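import Cfsg.Agent.H711.TwoAnReal
import Cfsg.Agent.H711.RowCount
import Cfsg.Agent.TypeM.FactsMcL
import Cfsg.Agent.TypeM.FactsLy
import Cfsg.Agent.CpAutLy.Row

/-!
# The strong rows for `p = 3`: `McL`, `Ly`, `Co2`
-/

set_option autoImplicit false

open Subgroup

namespace Cfsg.Agent.H711.McLLy

open Cfsg Cfsg.Agent.H711.Crit Cfsg.Agent.H711.TwoAnReal

theorem nn_mcl : NN 3 Spor.McL := by
  have : Fact (Nat.Prime 3) := ⟨Nat.prime_three⟩
  obtain ⟨hf, -, hc, ⟨L⟩⟩ := TypeM.FactsMcL.exists_mt_mcl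
  obtain ⟨z, u, f, hz, hu, -, hzu, -, -, hC⟩ := CpAutLy.McLElt.exists_data (M := Spor.McL) ⟨MulEquiv.refl _⟩
  have hu2 : u * u = 1 := by rw [← pow_two, ← hu, pow_orderOf_eq_one]
  have hu1 : u ≠ 1 := by
    intro h0
    rw [h0, orderOf_one] at hu
    norm_num at hu
  refine NN.of_real_card (n := 6) (m := 1232000) (by norm_num) hz
    (real_mt (by norm_num) L (by rw [← hz, pow_orderOf_eq_one]) hu2 hu1 hzu) (by rw [hc]; norm_num) (by norm_num) ?_
  norm_num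
  exact hC

theorem nn_ly : NN 3 Spor.Ly := by
  have : Fact (Nat.Prime 3) := ⟨Nat.prime_three⟩
  have hfin : Finite Cfsg.Spor.Ly := Cfsg.Agent.Ly.Setup.finite_ly
  have hc : Nat.card Spor.Ly = 51765179004000000 := NotCT.Orders.ly ⟨MulEquiv.refl _⟩
  obtain ⟨x, hx⟩ := Cfsg.Agent.CpAutLy.Base.exists_three
  obtain ⟨L, htx, -⟩ := hx.cycle
  refine NN.of_real_card (n := 7) (m := 23669492000000) (by norm_num) hx.ord
    (real_mt (by norm_num) L (by rw [← hx.ord, pow_orderOf_eq_one]) L.t_mul_t L.t_ne htx.symm) (by rw [hc]; norm_num)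
    (by norm_num) ?_
  have h1 := (center ↥(centralizer ({x} : Set Spor.Ly))).card_eq_card_quotient_mul_card_subgroup
  rw [hx.zcard, NotCT.Orders.mcl hx.quot] at h1
  rw [h1]
  norm_num

theorem nn_co2 : NN 3 Spor.Co2 := by
  have : Fact (Nat.Prime 3) := ⟨Nat.prime_three⟩
  have hc : Nat.card Spor.Co2 = 42305421312000 := NotCT.Orders.co2 ⟨MulEquiv.refl _⟩
  have hm : Nat.card Spor.McL = 898128000 := NotCT.Orders.mcl ⟨MulEquiv.refl _⟩
  have : Finite Spor.Co2 := Nat.finite_of_card_ne_zero (by rw [hc]; norm_num)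
  have hle : Spor.McL ≤ Spor.Co2 := by
    rintro g ⟨⟨h1, -⟩, h2⟩
    exact ⟨h1, h2⟩
  have h1 := nn_mcl.congr (subgroupOfEquivOfLe hle).symm
  refine NN.of_subgroup (Spor.McL.subgroupOf Spor.Co2) ?_ h1
  have h2 := (Spor.McL.subgroupOf Spor.Co2).card_mul_index
  rw [Nat.card_congr (subgroupOfEquivOfLe hle).toEquiv, hm, hc] at h2
  intro h9
  obtain ⟨c, hc'⟩ := h9
  rw [hc'] at h2
  omega

end Cfsg.Agent.H711.McLLy
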