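import Cfsg.Agent.H711.RowsA
import Cfsg.Agent.H711.McLLy
import Cfsg.Agent.H711.FiThreeRow
import Cfsg.Agent.H711.BabyRow
import Cfsg.Agent.S2073
import Cfsg.Agent.S2076
import Cfsg.Agent.S2070
import Cfsg.Agent.S2080
import Cfsg.Agent.S2084

/-!
# The strong rows for `p = 3`: `McL`, `Ly`, `Co2`, `Fi23`, `B`
-/

set_option autoImplicit false

namespace Cfsg.Agent.H711.RowsB

open Cfsg Cfsg.Agent.H711.Crit Cfsg.Agent.H712.Gmn Cfsg.Agent.H711.RowsA

universe u

theorem mcl {K : Type u} [Group K] [IsSimpleGroup K] (h : Spor.IsoMcL K) : RowS 3 K := by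
  have hc : Nat.card ↥Spor.McL = _ := NotCT.Orders.mcl ⟨MulEquiv.refl _⟩
  have : Finite ↥Spor.McL := Nat.finite_of_card_ne_zero (by rw [hc]; norm_num)
  obtain ⟨e⟩ := h
  exact row_of e (not_prime (by rw [hc]; norm_num)) S2073.result (by norm_num) McLLy.nn_mcl

theorem ly {K : Type u} [Group K] [IsSimpleGroup K] (h : Spor.IsoLy K) : RowS 3 K := by
  have hc : Nat.card Spor.Ly = _ := NotCT.Orders.ly ⟨MulEquiv.refl _⟩
  have : Finite Spor.Ly := Nat.finite_of_card_ne_zero (by rw [hc]; norm_num)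
  obtain ⟨e⟩ := h
  exact row_of e (not_prime (by rw [hc]; norm_num)) S2076.result (by norm_num) McLLy.nn_ly

theorem co2 {K : Type u} [Group K] [IsSimpleGroup K] (h : Spor.IsoCo2 K) : RowS 3 K := by
  have hc : Nat.card ↥Spor.Co2 = _ := NotCT.Orders.co2 ⟨MulEquiv.refl _⟩
  have : Finite ↥Spor.Co2 := Nat.finite_of_card_ne_zero (by rw [hc]; norm_num)
  obtain ⟨e⟩ := h
  exact row_of e (not_prime (by rw [hc]; norm_num)) S2070.result (by norm_num) McLLy.nn_co2

theorem fi23 {K : Type u} [Group K] [IsSimpleGroup K] (h : Spor.IsoFi23 K) : RowS 3 K := by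
  have hc : Nat.card Spor.Fi23 = _ := NotCT.Orders.fi23 ⟨MulEquiv.refl _⟩
  have : Finite Spor.Fi23 := Nat.finite_of_card_ne_zero (by rw [hc]; norm_num)
  obtain ⟨e⟩ := h
  exact row_of e (not_prime (by rw [hc]; norm_num)) S2080.result (by norm_num) FiThreeRow.nn_fi23

theorem b {K : Type u} [Group K] [IsSimpleGroup K] (h : Spor.IsoB K) : RowS 3 K := by
  have hc : Nat.card Spor.BabyMonster = _ := NotCT.Orders.b ⟨MulEquiv.refl _⟩
  have : Finite Spor.BabyMonster := Nat.finite_of_card_ne_zero (by rw [hc]; norm_num)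
  obtain ⟨e⟩ := h
  exact row_of e (not_prime (by rw [hc]; norm_num)) S2084.result (by norm_num) BabyRow.nn_b

end Cfsg.Agent.H711.RowsB
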