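import Cfsg.Agent.H711.RowsA
import Cfsg.Agent.H711.JThreeRow
import Cfsg.Agent.S2067

/-!
# The strong row for `p = 3`: `J3`
-/

set_option autoImplicit false

namespace Cfsg.Agent.H711.RowJ3

open Cfsg Cfsg.Agent.H711.Crit Cfsg.Agent.H712.Gmn Cfsg.Agent.H711.RowsA

universe u

theorem j3 {K : Type u} [Group K] [IsSimpleGroup K] (h : Spor.IsoJ3 K) : RowS 3 K := by
  obtain ⟨F, _, _, ω, hF, hω, ⟨e⟩⟩ := h
  have hc : Nat.card (Spor.J3 F ω) = _ := NotCT.Orders.j3 ⟨F, _, _, ω, hF, hω, ⟨MulEquiv.refl _⟩⟩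
  have : Finite (Spor.J3 F ω) := Nat.finite_of_card_ne_zero (by rw [hc]; norm_num)
  exact row_of e (not_prime (by rw [hc]; norm_num)) (S2067.result hF ω hω) (by norm_num)
    (JThreeRow.nn_j3 hF hω)

end Cfsg.Agent.H711.RowJ3
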