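import Cfsg.Agent.TypeM.Two
import Cfsg.Agent.H711.Crit

/-!
# Elements of order 3 in groups with involution centralizer `2.A_n`, `n = 2 mod 3`
-/

set_option autoImplicit false

open Subgroup Equiv

namespace Cfsg.Agent.H711.TwoAnReal

open Cfsg.Agent.SporRec.TwoAn Cfsg.Agent.TypeM.Two

/-- elements of order 3 of `A_n`, `n = 2 mod 3`, are real -/
theorem real_alt {n : ℕ} (hn : n % 3 = 2) {σ : Perm (Fin n)} (hσ : σ ^ 3 = 1) :
    ∃ ρ ∈ alternatingGroup (Fin n), ρ * σ * ρ⁻¹ = σ⁻¹ := by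
  have hp : Fact (Nat.Prime 3) := ⟨Nat.prime_three⟩
  -- two fixed points
  have h1 : σ.supportᶜ.card ≡ Fintype.card (Fin n) [MOD 3] :=
    Equiv.Perm.card_compl_support_modEq (n := 1) (by rw [pow_one]; exact hσ)
  have h2 : 1 < σ.supportᶜ.card := by
    rw [Fintype.card_fin] at h1
    have h3 : σ.supportᶜ.card % 3 = 2 := by
      rw [← hn]; exact h1
    omega
  obtain ⟨a, ha, b, hb, hab'⟩ := Finset.one_lt_card.1 h2
  rw [Finset.mem_compl, Perm.mem_support, not_not] at ha hb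
  have ha' : σ a = a := ha
  have hb' : σ b = b := hb
  have hd : (swap a b).Disjoint σ := by
    intro x
    by_cases hxa : x = a
    · exact Or.inr (by rw [hxa]; exact ha')
    · by_cases hxb : x = b
      · exact Or.inr (by rw [hxb]; exact hb')
      · exact Or.inl (swap_apply_of_ne_of_ne hxa hxb)
  have hcomm : swap a b * σ = σ * swap a b := hd.commute.eq
  -- conjugate in the symmetric group
  have h3 : IsConj σ σ⁻¹ := by
    rw [Perm.isConj_iff_cycleType_eq, Perm.cycleType_inv]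
  obtain ⟨ρ, hρ⟩ := isConj_iff.1 h3
  rcases Int.units_eq_one_or (Perm.sign ρ) with h4 | h4
  · exact ⟨ρ, Perm.mem_alternatingGroup.2 h4, hρ⟩
  · refine ⟨ρ * swap a b, Perm.mem_alternatingGroup.2 ?_, ?_⟩
    · rw [map_mul, h4, Perm.sign_swap hab']; rfl
    · rw [← hρ]
      calc ρ * swap a b * σ * (ρ * swap a b)⁻¹ = ρ * (swap a b * σ) * (swap a b)⁻¹ * ρ⁻¹ := by group
        _ = ρ * (σ * swap a b) * (swap a b)⁻¹ * ρ⁻¹ := by rw [hcomm]
        _ = ρ * σ * ρ⁻¹ := by group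

theorem real_cover {n : ℕ} (hn : n % 3 = 2) {C : Type*} [Group C] (K : Cover (Fin n) C) {y : C} (hy : y ^ 3 = 1) :
    ∃ g : C, g * y * g⁻¹ = y⁻¹ := by
  obtain ⟨ρ, hρ, h1⟩ := real_alt hn (σ := K.π y) (by rw [← map_pow, hy, map_one])
  obtain ⟨g, rfl⟩ := K.exists_lift hρ
  refine ⟨g, K.odd_lift_unique (n := 3) (by decide) ?_ ?_ ?_⟩
  · rw [conj_pow, hy, mul_one, mul_inv_cancel]
  · rw [inv_pow, hy, inv_one]
  · rw [map_mul, map_mul, map_inv, map_inv, h1]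

theorem real_mt {n : ℕ} (hn : n % 3 = 2) {G : Type*} [Group G] (L : MT n G) {x s : G} (hx : x ^ 3 = 1)
    (hs : s * s = 1) (hs1 : s ≠ 1) (hc : x * s = s * x) : IsConj x x⁻¹ := by
  obtain ⟨g, hg⟩ := L.one s hs hs1
  have h1 : (g⁻¹ * x * g) * L.t = L.t * (g⁻¹ * x * g) := by
    calc (g⁻¹ * x * g) * L.t = g⁻¹ * (x * (g * L.t * g⁻¹)) * g := by group
      _ = g⁻¹ * ((g * L.t * g⁻¹) * x) * g := by rw [hg, hc]
      _ = L.t * (g⁻¹ * x * g) := by group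
  let y : centralizer ({L.t} : Set G) := ⟨g⁻¹ * x * g, mem_centralizer_singleton_iff.2 h1⟩
  have hy : y ^ 3 = 1 := by
    apply Subtype.ext
    show (g⁻¹ * x * g) ^ 3 = 1
    have e : g⁻¹ * x * g = g⁻¹ * x * g⁻¹⁻¹ := by rw [inv_inv]
    rw [e, conj_pow, hx]
    group
  obtain ⟨⟨c, hc'⟩, h2⟩ := real_cover hn L.K hy
  have h3 : c * (g⁻¹ * x * g) * c⁻¹ = (g⁻¹ * x * g)⁻¹ := congrArg Subtype.val h2
  refine isConj_iff.2 ⟨g * c * g⁻¹, ?_⟩
  calc g * c * g⁻¹ * x * (g * c * g⁻¹)⁻¹ = g * (c * (g⁻¹ * x * g) * c⁻¹) * g⁻¹ := by group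
    _ = x⁻¹ := by rw [h3]; group

end Cfsg.Agent.H711.TwoAnReal
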